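import Groth.Agent.Lib.CurveCoh17.GenusBC
import Groth.Agent.Lib.HilbBC25.Basic
import Groth.Prelude.Def_FGA
import Groth.Prelude.Def_PicGrp
import Groth.Agent.Lib.ModM1.Pull

/-!
# Degree zero on fibres is insensitive to extensions of the ground field
-/

set_option autoImplicit false
set_option linter.style.haveILetI false
set_option backward.isDefEq.respectTransparency false
set_option backward.isDefEq.respectTransparency.types false

universe u

open CategoryTheory CategoryTheory.Limits AlgebraicGeometry

noncomputable section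

namespace Groth.Agent.PicTan20

/-- Pullback along an isomorphism is pushforward along its inverse. -/
theorem nonempty_push_inv_iso_pullback {Y Z : Scheme.{u}} (e : Y ≅ Z) :
    Nonempty (Scheme.Modules.pushforward e.inv ≅ Scheme.Modules.pullback e.hom) :=
  let E : Z.Modules ≌ Y.Modules := CategoryTheory.Equivalence.mk (Scheme.Modules.pushforward e.inv)
    (Scheme.Modules.pushforward e.hom)
    ((Scheme.Modules.pushforwardId Z).symm ≪≫ Scheme.Modules.pushforwardCongr e.inv_hom_id.symm ≪≫
      (Scheme.Modules.pushforwardComp e.inv e.hom).symm)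
    (Scheme.Modules.pushforwardComp e.hom e.inv ≪≫ Scheme.Modules.pushforwardCongr e.hom_inv_id ≪≫
      Scheme.Modules.pushforwardId Y)
  ⟨E.toAdjunction.leftAdjointUniq (Scheme.Modules.pullbackPushforwardAdjunction e.hom)⟩

variable {k K : Type u} [Field k] [Field K] {X Y : Scheme.{u}} [X.Over (Spec (CommRingCat.of k))]
  [Y.Over (Spec (CommRingCat.of K))] [CompactSpace X] [QuasiSeparatedSpace X]

/-- Cohomology of a pulled back module on a base change of the ground field. -/
theorem finrank_HH_pullback_mod (h : k →+* K) {g : Y ⟶ X}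
    (hpb : IsPullback g (Y ↘ Spec (CommRingCat.of K)) (X ↘ Spec (CommRingCat.of k))
      (Spec.map (CommRingCat.ofHom h))) {M : X.Modules} (hM : Coh.IsQCoh M) (n : ℕ) :
    Module.finrank K (Coh.HH Y ((Scheme.Modules.pullback g).obj M) n) = Module.finrank k (Coh.HH X M n) := by
  letI := h.toAlgebra
  letI : (Curv2.bc k X K).Over (Spec (CommRingCat.of K)) := ⟨Curv2.bcSnd k X K⟩
  let e : Y ≅ Curv2.bc k X K := hpb.isoPullback
  obtain ⟨θ⟩ := nonempty_push_inv_iso_pullback e
  let N := CohBC18.M' (k := k) X K M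
  have hN : Coh.IsQCoh N := M1.isQCoh_pullback _ hM
  obtain ⟨E⟩ := CohBC18.nonempty_HH_bc (k := k) X K M hM n
  obtain ⟨P⟩ := AmpleFin18.nonempty_HH_push (k := K) e.inv (by
    rw [show (Y ↘ Spec (CommRingCat.of K)) = e.hom ≫ Curv2.bcSnd k X K from hpb.isoPullback_hom_snd.symm,
      Iso.inv_hom_id_assoc]
    rfl) N hN n
  let i : (Scheme.Modules.pushforward e.inv).obj N ≅ (Scheme.Modules.pullback g).obj M :=
    θ.app N ≪≫ (Scheme.Modules.pullbackComp e.hom (Curv2.bcFst k X K)).app M ≪≫
      (Scheme.Modules.pullbackCongr hpb.isoPullback_hom_fst).app M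
  exact (CurveCoh17.hequiv K i n).finrank_eq.symm.trans
    (P.finrank_eq.trans (E.finrank_eq.symm.trans Module.finrank_baseChange))

/-- The Euler characteristic of a pulled back module. -/
theorem eulerCharLE_pullback (h : k →+* K) {g : Y ⟶ X}
    (hpb : IsPullback g (Y ↘ Spec (CommRingCat.of K)) (X ↘ Spec (CommRingCat.of k))
      (Spec.map (CommRingCat.ofHom h))) {M : X.Modules} (hM : Coh.IsQCoh M) (d : ℕ) :
    FGA.eulerCharLE K Y ((Scheme.Modules.pullback g).obj M) d = FGA.eulerCharLE k X M d :=
  Finset.sum_congr rfl fun n _ => by rw [finrank_HH_pullback_mod h hpb hM n]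

omit [CompactSpace X] [QuasiSeparatedSpace X] in
theorem eulerCharLE_congr {M N : X.Modules} (e : M ≅ N) (d : ℕ) :
    FGA.eulerCharLE k X M d = FGA.eulerCharLE k X N d :=
  Finset.sum_congr rfl fun n _ => by rw [(CurveCoh17.hequiv k e n).finrank_eq]

section Fibres

variable {X S : Scheme.{u}} (f : X ⟶ S) [IsProper f]

/-- Euler characteristics at a point of the base change are those at its image. -/
theorem eulerLE_at_eq {T T' : Over S} (g : T' ⟶ T) (t : T'.left) {L : (PicF.XT f T).Modules}
    (hL : Coh.IsQCoh L) :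
    FGA.eulerCharLE (T'.left.residueField t) (FGA.fibreAt f T' t).left
        (FGA.restrFibre f T' t ((Scheme.Modules.pullback (PicF.XTmap f g)).obj L)) 1 =
      FGA.eulerCharLE (T.left.residueField (g.left t)) (FGA.fibreAt f T (g.left t)).left
        (FGA.restrFibre f T (g.left t) L) 1 ∧
    FGA.eulerCharLE (T'.left.residueField t) (FGA.fibreAt f T' t).left (Coh.structureModule _) 1 =
      FGA.eulerCharLE (T.left.residueField (g.left t)) (FGA.fibreAt f T (g.left t)).left (Coh.structureModule _) 1 := by
  let s := g.left t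
  let a := pullback.fst (PicF.XTproj f T') (T'.left.fromSpecResidueField t)
  let b := pullback.snd (PicF.XTproj f T') (T'.left.fromSpecResidueField t)
  let a' := pullback.fst (PicF.XTproj f T) (T.left.fromSpecResidueField s)
  let b' := pullback.snd (PicF.XTproj f T) (T.left.fromSpecResidueField s)
  have hout : IsPullback (a ≫ PicF.XTmap f g) b (PicF.XTproj f T)
      (Spec.map (g.left.residueFieldMap t) ≫ T.left.fromSpecResidueField s) := by
    rw [Scheme.Hom.SpecMap_residueFieldMap_fromSpecResidueField]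
    exact (IsPullback.of_hasPullback (PicF.XTproj f T') (T'.left.fromSpecResidueField t)).paste_horiz
      (HilbBC25.isPullback_XTmap f g)
  let F : (FGA.fibreAt f T' t).left ⟶ (FGA.fibreAt f T s).left :=
    pullback.lift (a ≫ PicF.XTmap f g) (b ≫ Spec.map (g.left.residueFieldMap t)) (by
      rw [Category.assoc b]; exact hout.w)
  have hF : F ≫ a' = a ≫ PicF.XTmap f g := pullback.lift_fst _ _ _
  have hpb : IsPullback F b b' (Spec.map (CommRingCat.ofHom (g.left.residueFieldMap t).hom)) := by
    refine IsPullback.of_right (h₁₂ := a') (v₁₃ := PicF.XTproj f T) (h₂₂ := T.left.fromSpecResidueField s) ?_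
      (pullback.lift_snd _ _ _) (IsPullback.of_hasPullback (PicF.XTproj f T) (T.left.fromSpecResidueField s))
    rw [hF]
    exact hout
  letI : (FGA.fibreAt f T' t).left.Over (Spec (CommRingCat.of (T'.left.residueField t))) := ⟨b⟩
  letI : (FGA.fibreAt f T s).left.Over (Spec (CommRingCat.of (T.left.residueField s))) := ⟨b'⟩
  haveI : IsProper b' := MorphismProperty.pullback_snd _ _ inferInstance
  haveI : CompactSpace (FGA.fibreAt f T s).left := QuasiCompact.compactSpace_of_compactSpace b'
  haveI : QuasiSeparatedSpace (FGA.fibreAt f T s).left := quasiSeparatedSpace_of_quasiSeparated b'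
  have h1 : FGA.eulerCharLE (T'.left.residueField t) (FGA.fibreAt f T' t).left
      (FGA.restrFibre f T' t ((Scheme.Modules.pullback (PicF.XTmap f g)).obj L)) 1 =
      FGA.eulerCharLE (T.left.residueField s) (FGA.fibreAt f T s).left (FGA.restrFibre f T s L) 1 := by
    refine Eq.trans (eulerCharLE_congr ?_ 1)
      (eulerCharLE_pullback (g.left.residueFieldMap t).hom hpb (M1.isQCoh_pullback a' hL) 1)
    exact (Scheme.Modules.pullbackComp a (PicF.XTmap f g)).app L ≪≫
      (Scheme.Modules.pullbackCongr hF.symm).app L ≪≫ ((Scheme.Modules.pullbackComp F a').app L).symm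
  have h2 : FGA.eulerCharLE (T'.left.residueField t) (FGA.fibreAt f T' t).left (Coh.structureModule _) 1 =
      FGA.eulerCharLE (T.left.residueField s) (FGA.fibreAt f T s).left (Coh.structureModule _) 1 :=
    Eq.trans (eulerCharLE_congr (Twist.pullbackUnitIso F).symm 1)
      (eulerCharLE_pullback (g.left.residueFieldMap t).hom hpb (M1.isQCoh_structureModule _) 1)
  exact ⟨h1, h2⟩

/-- Degree zero at a point of the base change is degree zero at its image. -/
theorem degreeZero_at_iff {T T' : Over S} (g : T' ⟶ T) (t : T'.left) {L : (PicF.XT f T).Modules}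
    (hL : Coh.IsQCoh L) :
    FGA.eulerCharLE (T'.left.residueField t) (FGA.fibreAt f T' t).left
        (FGA.restrFibre f T' t ((Scheme.Modules.pullback (PicF.XTmap f g)).obj L)) 1 =
      FGA.eulerCharLE (T'.left.residueField t) (FGA.fibreAt f T' t).left (Coh.structureModule _) 1 ↔
    FGA.eulerCharLE (T.left.residueField (g.left t)) (FGA.fibreAt f T (g.left t)).left
        (FGA.restrFibre f T (g.left t) L) 1 =
      FGA.eulerCharLE (T.left.residueField (g.left t)) (FGA.fibreAt f T (g.left t)).left (Coh.structureModule _) 1 := by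
  rw [(eulerLE_at_eq f g t hL).1, (eulerLE_at_eq f g t hL).2]

omit [IsProper f] in
/-- Degree zero does not depend on the representative. -/
theorem hasFibreDegreeZero_congr {T : Over S} {L L' : (PicF.XT f T).Modules} (e : L ≅ L')
    (h : FGA.HasFibreDegreeZero f T L) : FGA.HasFibreDegreeZero f T L' := fun t =>
  (eulerCharLE_congr ((Scheme.Modules.pullback _).mapIso e.symm) 1).trans (h t)

/-- Degree zero pulls back. -/
theorem hasFibreDegreeZeroCl_pull {T T' : Over S} (g : T' ⟶ T) {c : PicF.Cl (PicF.XT f T)}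
    (hc : PicF.IsInvertibleCl c) (h : FGA.HasFibreDegreeZeroCl f T c) :
    FGA.HasFibreDegreeZeroCl f T' (PicF.pullCl (PicF.XTmap f g) c) := by
  obtain ⟨L, rfl, hL⟩ := h
  obtain ⟨M, hM, hMi⟩ := hc
  obtain ⟨e⟩ := (PicGrp.cl_eq_cl_iff _ _).1 hM
  refine ⟨(Scheme.Modules.pullback (PicF.XTmap f g)).obj M, ?_, fun t =>
    (degreeZero_at_iff f g t (Twist.isQCoh_of_isInvertible hMi)).2 (hasFibreDegreeZero_congr f e.symm hL _)⟩
  rw [← hM]
  rfl

/-- Degree zero descends along surjections. -/
theorem hasFibreDegreeZeroCl_of_pull {T T' : Over S} (g : T' ⟶ T) (hg : Function.Surjective g.left)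
    {c : PicF.Cl (PicF.XT f T)} (hc : PicF.IsInvertibleCl c)
    (h : FGA.HasFibreDegreeZeroCl f T' (PicF.pullCl (PicF.XTmap f g) c)) :
    FGA.HasFibreDegreeZeroCl f T c := by
  obtain ⟨M, rfl, hMi⟩ := hc
  obtain ⟨L', hL', hdeg⟩ := h
  obtain ⟨e⟩ := (PicGrp.cl_eq_cl_iff _ _).1 hL'
  refine ⟨M, rfl, fun s => ?_⟩
  obtain ⟨t, rfl⟩ := hg s
  exact (degreeZero_at_iff f g t (Twist.isQCoh_of_isInvertible hMi)).1 (hasFibreDegreeZero_congr f e hdeg t)

end Fibres

end Groth.Agent.PicTan20
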