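import Mathlib.RingTheory.Ideal.Cotangent
import Mathlib.Algebra.DualNumber
import Mathlib.LinearAlgebra.Dimension.Free
import Mathlib.RingTheory.LocalRing.ResidueField.Basic

/-!
# The universal first order deformation at a rational point of a local ring
-/

set_option autoImplicit false
set_option linter.style.haveILetI false

universe u

open IsLocalRing

noncomputable section

namespace Groth.Agent.PicTan20

/-- The universal first order map out of a local ring with a rational residue field, in coordinates. -/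
theorem exists_universalTangent {O k K : Type u} [CommRing O] [IsLocalRing O] [IsNoetherianRing O] [Field k] [Field K]
    (ι : k →+* O) (ε : O →+* k) (hε : ε.comp ι = RingHom.id k) (η : k →+* K) :
    ∃ D : O →+* TrivSqZeroExt K (Fin (Module.finrank (ResidueField O) (CotangentSpace O)) → K),
      (∀ a, (D a).fst = η (ε a)) ∧
      (∀ c, D (ι c) = TrivSqZeroExt.inl (η c)) ∧
      (∀ j, ∃ a, (D a).snd = Pi.single j 1) ∧
      ∀ d : O →+* DualNumber K, (∀ a, TrivSqZeroExt.fst (d a) = η (ε a)) →
        (∀ c, d (ι c) = TrivSqZeroExt.inl (η c)) →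
        ∃ lam : Fin (Module.finrank (ResidueField O) (CotangentSpace O)) → K,
          ∀ a, TrivSqZeroExt.snd (d a) = ∑ i, lam i * (D a).snd i := by
  let n := Module.finrank (ResidueField O) (CotangentSpace O)
  let b : Module.Basis (Fin n) (ResidueField O) (CotangentSpace O) := Module.finBasis _ _
  have hεs : Function.Surjective ε := fun c => ⟨ι c, RingHom.congr_fun hε c⟩
  have hker : RingHom.ker ε = maximalIdeal O :=
    IsLocalRing.eq_maximalIdeal (RingHom.ker_isMaximal_of_surjective ε hεs)
  have hιε : ∀ a, a - ι (ε a) ∈ maximalIdeal O := fun a => by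
    rw [← hker, RingHom.mem_ker, map_sub, show ε (ι (ε a)) = ε a from RingHom.congr_fun hε _, sub_self]
  let ρ : ResidueField O →+* K := Ideal.Quotient.lift _ (η.comp ε) (fun a ha => by
    rw [RingHom.comp_apply, show ε a = 0 by rwa [← RingHom.mem_ker, hker], map_zero])
  have hρ : ∀ a, ρ (residue O a) = η (ε a) := fun a => rfl
  let co : (maximalIdeal O) → Fin n → K := fun x i => ρ (b.repr ((maximalIdeal O).toCotangent x) i)
  have co_add : ∀ x y, co (x + y) = co x + co y := fun x y => funext fun i => by
    show ρ _ = ρ _ + ρ _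
    rw [map_add, map_add, Finsupp.add_apply, map_add]
  have co_smul : ∀ (a : O) x, co (a • x) = η (ε a) • co x := fun a x => funext fun i => by
    show ρ _ = η (ε a) * ρ _
    rw [map_smul, ← algebraMap_smul (ResidueField O) a, map_smul, Finsupp.smul_apply, smul_eq_mul, map_mul]
    rfl
  have co_zero : co 0 = 0 := funext fun i => by
    show ρ _ = 0
    rw [map_zero, map_zero, Finsupp.zero_apply, map_zero]
  let dd : O → Fin n → K := fun a => co ⟨a - ι (ε a), hιε a⟩
  have dd_ι : ∀ c, dd (ι c) = 0 := fun c => by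
    refine Eq.trans (congrArg co (Subtype.ext ?_)) co_zero
    show ι c - ι (ε (ι c)) = 0
    rw [show ε (ι c) = c from RingHom.congr_fun hε c, sub_self]
  have dd_add : ∀ a a', dd (a + a') = dd a + dd a' := fun a a' => by
    rw [← co_add]
    refine congrArg co (Subtype.ext ?_)
    show a + a' - ι (ε (a + a')) = (a - ι (ε a)) + (a' - ι (ε a'))
    rw [map_add, map_add]
    ring
  have dd_mul : ∀ a a', dd (a * a') = η (ε a) • dd a' + η (ε a') • dd a := fun a a' => by
    have hh : η (ε a') • dd a = co (ι (ε a') • ⟨a - ι (ε a), hιε a⟩) := by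
      rw [co_smul, show ε (ι (ε a')) = ε a' from RingHom.congr_fun hε _]
    rw [hh, ← co_smul, ← co_add]
    refine congrArg co (Subtype.ext ?_)
    show a * a' - ι (ε (a * a')) = a * (a' - ι (ε a')) + ι (ε a') * (a - ι (ε a))
    rw [map_mul, map_mul]
    ring
  let D : O →+* TrivSqZeroExt K (Fin n → K) :=
    { toFun := fun a => TrivSqZeroExt.inl (η (ε a)) + TrivSqZeroExt.inr (dd a)
      map_one' := by
        refine TrivSqZeroExt.ext (by simp) ?_
        rw [TrivSqZeroExt.snd_add, TrivSqZeroExt.snd_inl, TrivSqZeroExt.snd_inr, TrivSqZeroExt.snd_one, zero_add,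
          ← map_one ι, dd_ι]
      map_mul' := fun a a' => by
        refine TrivSqZeroExt.ext (by simp) ?_
        simp only [TrivSqZeroExt.snd_mul, TrivSqZeroExt.snd_add, TrivSqZeroExt.snd_inl, TrivSqZeroExt.snd_inr,
          TrivSqZeroExt.fst_add, TrivSqZeroExt.fst_inl, TrivSqZeroExt.fst_inr, zero_add, add_zero,
          op_smul_eq_smul, dd_mul]
      map_zero' := by
        refine TrivSqZeroExt.ext (by simp) ?_
        rw [TrivSqZeroExt.snd_add, TrivSqZeroExt.snd_inl, TrivSqZeroExt.snd_inr, TrivSqZeroExt.snd_zero, zero_add,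
          ← map_zero ι, dd_ι]
      map_add' := fun a a' => by
        refine TrivSqZeroExt.ext (by simp) ?_
        simp only [TrivSqZeroExt.snd_add, TrivSqZeroExt.snd_inl, TrivSqZeroExt.snd_inr, zero_add, dd_add] }
  have hDs : ∀ a, (D a).snd = dd a := fun a => by
    show (TrivSqZeroExt.inl (η (ε a)) + TrivSqZeroExt.inr (dd a)).snd = dd a
    simp
  refine ⟨D, fun a => ?_, fun c => ?_, fun j => ?_, fun d hd1 hd2 => ?_⟩
  · show (TrivSqZeroExt.inl (η (ε a)) + TrivSqZeroExt.inr (dd a)).fst = _
    simp
  · show TrivSqZeroExt.inl (η (ε (ι c))) + TrivSqZeroExt.inr (dd (ι c)) = _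
    rw [dd_ι, show ε (ι c) = c from RingHom.congr_fun hε c, TrivSqZeroExt.inr_zero, add_zero]
  · obtain ⟨x, hx⟩ := (maximalIdeal O).toCotangent_surjective (b j)
    refine ⟨x, (hDs x).trans ?_⟩
    have hx0 : ε (x : O) = 0 := by rw [← RingHom.mem_ker, hker]; exact x.2
    have h1 : dd x = co x := congrArg co (Subtype.ext (by show (x : O) - ι (ε x) = x; rw [hx0, map_zero, sub_zero]))
    rw [h1]
    funext i
    show ρ (b.repr _ i) = _
    rw [hx, b.repr_self, Finsupp.single_apply, Pi.single_apply]
    by_cases h : i = j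
    · rw [if_pos h, if_pos h.symm, map_one]
    · rw [if_neg h, if_neg (Ne.symm h), map_zero]
  · choose x hx using fun i => (maximalIdeal O).toCotangent_surjective (b i)
    refine ⟨fun i => TrivSqZeroExt.snd (d (x i)), fun a => ?_⟩
    let y : maximalIdeal O := ⟨a - ι (ε a), hιε a⟩
    choose r hr using fun i => residue_surjective (b.repr ((maximalIdeal O).toCotangent y) i)
    have hz : (maximalIdeal O).toCotangent (y - ∑ i, r i • x i) = 0 := by
      rw [map_sub, map_sum, sub_eq_zero]
      conv_lhs => rw [← b.sum_repr ((maximalIdeal O).toCotangent y)]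
      refine Finset.sum_congr rfl fun i _ => ?_
      rw [map_smul, hx, ← hr, ← IsScalarTower.algebraMap_smul (ResidueField O) (r i)]
      rfl
    have hz2 := ((maximalIdeal O).toCotangent_eq_zero _).1 hz
    have hd0 : ∀ z ∈ maximalIdeal O, TrivSqZeroExt.fst (d z) = 0 := fun z hz => by
      rw [hd1, show ε z = 0 by rwa [← RingHom.mem_ker, hker], map_zero]
    have hsq : ∀ z ∈ maximalIdeal O ^ 2, TrivSqZeroExt.snd (d z) = 0 := fun z hz => by
      rw [pow_two] at hz
      induction hz using Submodule.mul_induction_on' with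
      | mem_mul_mem u hu v hv => rw [map_mul, DualNumber.snd_mul, hd0 u hu, hd0 v hv, zero_mul, mul_zero, add_zero]
      | add u _ v _ hu hv => rw [map_add, TrivSqZeroExt.snd_add, hu, hv, add_zero]
    have h3 := hsq _ hz2
    rw [show ((y - ∑ i, r i • x i : maximalIdeal O) : O) = (a - ι (ε a)) - ∑ i, r i * (x i : O) by
      simp [y], map_sub, map_sub, hd2, map_sum, TrivSqZeroExt.snd_sub, TrivSqZeroExt.snd_sub, TrivSqZeroExt.snd_inl,
      sub_zero, TrivSqZeroExt.snd_sum, sub_eq_zero] at h3
    rw [h3]
    refine Finset.sum_congr rfl fun i _ => ?_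
    rw [map_mul, DualNumber.snd_mul, hd0 _ (x i).2, mul_zero, add_zero, hd1, hDs, mul_comm]
    congr 1
    show η (ε (r i)) = ρ _
    rw [← hr, hρ]

end Groth.Agent.PicTan20
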