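import Groth.Agent.Lib.PicTan20.Points
import Groth.Agent.Lib.PicTan20.Coord
import Groth.Prelude.Def_PicGrp

/-!
# The tangent space of a relative Picard scheme at the origin
-/

set_option autoImplicit false
set_option linter.style.haveILetI false
set_option backward.isDefEq.respectTransparency false
set_option backward.isDefEq.respectTransparency.types false

universe u

open CategoryTheory CategoryTheory.Limits AlgebraicGeometry TopologicalSpace Opposite DualNumber

noncomputable section

namespace Groth.Agent.PicTan20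

attribute [local instance] M2.law

variable {k : Type u} [Field k] {K : Type u} [Field K] [Algebra k K]

section Thick

variable {A B C : Type u} [CommRing A] [Algebra K A] [CommRing B] [Algebra K B] [CommRing C] [Algebra K C]

variable (k) in
/-- The structure map of a `K`-algebra as a test object over `k`. -/
abbrev tS (A : Type u) [CommRing A] [Algebra K A] : Spec (CommRingCat.of A) ⟶ Spec (CommRingCat.of k) :=
  Spec.map (CommRingCat.ofHom ((algebraMap K A).comp (algebraMap k K)))

/-- The morphism of test objects of an algebra map. -/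
def th (α : A →ₐ[K] B) : Over.mk (tS k (K := K) B) ⟶ Over.mk (tS k (K := K) A) :=
  Over.homMk (Spec.map (CommRingCat.ofHom α.toRingHom)) (by
    show Spec.map _ ≫ Spec.map _ = Spec.map _
    rw [← Spec.map_comp, ← CommRingCat.ofHom_comp]
    exact congrArg (fun m => Spec.map (CommRingCat.ofHom m)) (RingHom.ext fun x => α.commutes (algebraMap k K x)))

theorem th_comp (α : A →ₐ[K] B) (β : B →ₐ[K] C) : th (k := k) β ≫ th α = th (β.comp α) := by
  ext1
  show Spec.map _ ≫ Spec.map _ = Spec.map _
  rw [← Spec.map_comp, ← CommRingCat.ofHom_comp]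
  rfl

theorem th_id : th (k := k) (AlgHom.id K A) = 𝟙 _ := by
  ext1
  show Spec.map (CommRingCat.ofHom (RingHom.id A)) = 𝟙 _
  rw [CommRingCat.ofHom_id, Spec.map_id]

variable {P : Over (Spec (CommRingCat.of k))} (e₀ : Over.mk (𝟙 (Spec (CommRingCat.of k))) ⟶ P)

/-- The point of a rational point. -/
abbrev ptE : P.left := e₀.left (IsLocalRing.closedPoint k)

/-- The constants in the local ring. -/
def cst : CommRingCat.of k ⟶ P.left.presheaf.stalk (ptE e₀) :=
  Spec.preimage (P.left.fromSpecStalk (ptE e₀) ≫ P.hom)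

theorem Spec_cst : Spec.map (cst e₀) = P.left.fromSpecStalk (ptE e₀) ≫ P.hom := Spec.map_preimage _

/-- Evaluation at the rational point. -/
def evE : P.left.presheaf.stalk (ptE e₀) ⟶ CommRingCat.of k := Scheme.stalkClosedPointTo e₀.left

theorem cst_evE : cst e₀ ≫ evE e₀ = 𝟙 _ := by
  apply Spec.map_injective
  rw [Spec.map_comp, Spec.map_id, Spec_cst, ← Category.assoc]
  exact (congrArg (· ≫ P.hom) (Scheme.Spec_stalkClosedPointTo_fromSpecStalk e₀.left)).trans (Over.w e₀)

/-- The point of a map out of the local ring. -/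
def pt (d : P.left.presheaf.stalk (ptE e₀) →+* A)
    (hd : ∀ c, d ((cst e₀).hom c) = algebraMap K A (algebraMap k K c)) : Over.mk (tS k (K := K) A) ⟶ P :=
  Over.homMk (Spec.map (CommRingCat.ofHom d) ≫ P.left.fromSpecStalk (ptE e₀)) (by
    show (_ ≫ _) ≫ P.hom = Spec.map _
    rw [Category.assoc, ← Spec_cst, ← Spec.map_comp]
    exact congrArg Spec.map (CommRingCat.hom_ext (RingHom.ext hd)))

theorem pt_inj {d d' : P.left.presheaf.stalk (ptE e₀) →+* A} {hd hd'} (h : pt e₀ (K := K) d hd = pt e₀ d' hd') :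
    d = d' := by
  have h1 : Spec.map (CommRingCat.ofHom d) = Spec.map (CommRingCat.ofHom d') :=
    (cancel_mono (P.left.fromSpecStalk (ptE e₀))).1 (congrArg CommaMorphism.left h)
  exact congrArg CommRingCat.Hom.hom (Spec.map_injective h1)

theorem pt_congr {d d' : P.left.presheaf.stalk (ptE e₀) →+* A} {hd hd'} (h : d = d') :
    pt e₀ (K := K) d hd = pt e₀ d' hd' := by subst h; rfl

theorem th_pt (α : A →ₐ[K] B) (d : P.left.presheaf.stalk (ptE e₀) →+* A) (hd)
    (hd' : ∀ c, (α.toRingHom.comp d) ((cst e₀).hom c) = algebraMap K B (algebraMap k K c)) :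
    th α ≫ pt e₀ d hd = pt e₀ (α.toRingHom.comp d) hd' := by
  ext1
  show Spec.map _ ≫ Spec.map _ ≫ _ = Spec.map _ ≫ _
  rw [← Category.assoc, ← Spec.map_comp]
  rfl

/-- The constant point. -/
theorem pt_trivial (d : P.left.presheaf.stalk (ptE e₀) →+* A) (hd)
    (h : ∀ a, d a = algebraMap K A (algebraMap k K ((evE e₀).hom a))) :
    pt e₀ d hd = Over.homMk (V := Over.mk (𝟙 (Spec (CommRingCat.of k)))) (tS k (K := K) A) (Category.comp_id _) ≫ e₀ := by
  ext1
  show Spec.map _ ≫ _ = tS k (K := K) A ≫ e₀.left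
  conv_rhs => rw [← Scheme.Spec_stalkClosedPointTo_fromSpecStalk e₀.left]
  rw [← Category.assoc]
  refine congrArg (· ≫ _) ?_
  rw [← Spec.map_comp]
  exact congrArg Spec.map (CommRingCat.hom_ext (RingHom.ext h))

theorem exists_fac {R : CommRingCat.{u}} [IsLocalRing R] {Z : Scheme.{u}} (v : Spec R ⟶ Z) {z : Z}
    (h : v (IsLocalRing.closedPoint R) = z) :
    ∃ d : Z.presheaf.stalk z ⟶ R, Spec.map d ≫ Z.fromSpecStalk z = v := by
  subst h
  exact ⟨_, Scheme.Spec_stalkClosedPointTo_fromSpecStalk v⟩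

/-- Points of a thickening over a point near `e₀` come from the local ring. -/
theorem exists_pt (π : A →ₐ[K] K) (hn : IsNilpotent (RingHom.ker π.toRingHom))
    (v : Over.mk (tS k (K := K) A) ⟶ P)
    (hv : th π ≫ v = Over.homMk (V := Over.mk (𝟙 (Spec (CommRingCat.of k)))) (tS k (K := K) K) (Category.comp_id _) ≫ e₀) :
    ∃ d hd, v = pt e₀ d hd := by
  have hs : Function.Surjective π.toRingHom := fun a => ⟨algebraMap K A a, π.commutes a⟩
  have hmax : (RingHom.ker π.toRingHom).IsMaximal := RingHom.ker_isMaximal_of_surjective π.toRingHom hs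
  have hle : ∀ (Q : Ideal A) [Q.IsPrime], RingHom.ker π.toRingHom ≤ Q := fun Q _ a ha => by
    obtain ⟨N, hN⟩ := hn
    refine Ideal.IsPrime.mem_of_pow_mem ‹_› N ?_
    have h1 : a ^ N ∈ RingHom.ker π.toRingHom ^ N := Ideal.pow_mem_pow ha N
    rw [hN] at h1
    rw [show a ^ N = 0 from h1]
    exact zero_mem _
  haveI : IsLocalRing A := IsLocalRing.of_unique_max_ideal ⟨_, hmax, fun Q hQ =>
    (hmax.eq_of_le hQ.ne_top (haveI := hQ.isPrime; hle Q)).symm⟩
  have hpt : v.left (IsLocalRing.closedPoint A) = ptE e₀ := by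
    rw [show IsLocalRing.closedPoint A = Spec.map (CommRingCat.ofHom π.toRingHom) (IsLocalRing.closedPoint K) from
      PrimeSpectrum.ext ((IsLocalRing.eq_maximalIdeal hmax).symm.trans (by
        show RingHom.ker π.toRingHom = Ideal.comap π.toRingHom _
        rw [show (IsLocalRing.closedPoint K).asIdeal = ⊥ from IsLocalRing.maximalIdeal_eq_bot]
        rfl))]
    show ((th π ≫ v).left) (IsLocalRing.closedPoint K) = _
    rw [hv]
    exact congrArg e₀.left (Subsingleton.elim (α := PrimeSpectrum k) _ _)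
  obtain ⟨d, hd⟩ := exists_fac (R := CommRingCat.of A) v.left hpt
  have h1 : cst e₀ ≫ d = CommRingCat.ofHom ((algebraMap K A).comp (algebraMap k K)) := by
    apply Spec.map_injective
    rw [Spec.map_comp, Spec_cst, ← Category.assoc, hd]
    exact Over.w v
  exact ⟨d.hom, fun c => ConcreteCategory.congr_hom h1 c, Over.OverMorphism.ext hd.symm⟩

end Thick

section Pic

variable [IsAlgClosed K] {X : Scheme.{u}} (f : X ⟶ Spec (CommRingCat.of k))

variable (K) in
/-- The base change to `K`. -/
abbrev XK : Scheme.{u} := PicF.XT f (Over.mk (tS k (K := K) K))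

instance overXK : (XK K f).Over (Spec (CommRingCat.of K)) := ⟨PicF.XTproj f (Over.mk (tS k (K := K) K))⟩

variable {A B : Type u} [CommRing A] [Algebra K A] [CommRing B] [Algebra K B]

omit [IsAlgClosed K] in
theorem isPullback_thick :
    IsPullback (PicF.XTmap f (th (k := k) (Algebra.ofId K A))) (PicF.XTproj f (Over.mk (tS k (K := K) A)))
      (PicF.XTproj f (Over.mk (tS k (K := K) K))) (Spec.map (CommRingCat.ofHom (algebraMap K A))) :=
  HilbBC25.isPullback_XTmap f (th (k := k) (Algebra.ofId K A))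

omit [IsAlgClosed K] in
theorem good_thick (π : A →ₐ[K] K) (hn : IsNilpotent (RingHom.ker π.toRingHom)) :
    PicH1_21.Good (PicF.XTmap f (th (k := k) (Algebra.ofId K A))) :=
  good_of_square π hn (isPullback_thick f)

/-- The first order class `1 + t h` on a thickening. -/
def cls (hG : PicH1_21.Good (PicF.XTmap f (th (k := k) (Algebra.ofId K A)))) {t : A} (ht : t * t = 0)
    (h : Coh.HH (XK K f) (Coh.structureModule (XK K f)) 1) : PicLoc.PicSet (PicF.XT f (Over.mk (tS k (K := K) A))) :=
  Additive.toMul (nuCls _ hG (PicF.XTproj f (Over.mk (tS k (K := K) A))) ht h)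

omit [IsAlgClosed K] in
theorem pl_cls {hG : PicH1_21.Good (PicF.XTmap f (th (k := k) (Algebra.ofId K A)))}
    (hG' : PicH1_21.Good (PicF.XTmap f (th (k := k) (Algebra.ofId K B)))) (α : A →ₐ[K] B) {t : A} (ht : t * t = 0)
    {t' : B} (ht' : t' * t' = 0) (e : α t = t') (h : Coh.HH (XK K f) (Coh.structureModule (XK K f)) 1) :
    NPow20.pl (PicF.XTmap f (th α)) (cls f hG ht h) = cls f hG' ht' h := by
  subst e
  exact pl_nuCls _ hG _ ht _ (by rw [← HilbBC25.XTmap_comp, th_comp]; congr 2; exact AlgHom.ext fun x => α.commutes x)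
    hG' _ α.toRingHom (HilbBC25.XTmap_snd f _) ht' h

omit [IsAlgClosed K] in
theorem cls_zero (hG : PicH1_21.Good (PicF.XTmap f (th (k := k) (Algebra.ofId K A)))) {t : A} (ht : t * t = 0)
    (e : t = 0) (h : Coh.HH (XK K f) (Coh.structureModule (XK K f)) 1) : cls f hG ht h = 1 := by
  rw [cls, nuCls_zero _ _ _ ht e]
  rfl

omit [IsAlgClosed K] in
theorem cls_smul (hG : PicH1_21.Good (PicF.XTmap f (th (k := k) (Algebra.ofId K A)))) {t : A} (ht : t * t = 0)
    (a : K) {t' : A} (ht' : t' * t' = 0) (e : a • t = t') (h : Coh.HH (XK K f) (Coh.structureModule (XK K f)) 1) :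
    cls f hG ht' h = cls f hG ht (a • h) := by
  subst e
  exact congrArg Additive.toMul (nuCls_smul _ hG _ ht (k := K) (isPullback_thick f).w a ht' h)

variable {f} {P : Over (Spec (CommRingCat.of k))}
  {φ : ∀ T : Over (Spec (CommRingCat.of k)), PicF.Cl (PicF.XT f T) → (T ⟶ P)}

omit [IsAlgClosed K] [CommRing B] [Algebra K B] in
theorem ev_one (hP : PicRel.IsRelPic f P φ) :
    φ (Over.mk (tS k (K := K) A)) (1 : PicLoc.PicSet (PicF.XT f (Over.mk (tS k (K := K) A)))).1 =
      Over.homMk (V := Over.mk (𝟙 (Spec (CommRingCat.of k)))) (tS k (K := K) A) (Category.comp_id _) ≫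
        φ (Over.mk (𝟙 (Spec (CommRingCat.of k))))
          (PicF.cl (Coh.structureModule (PicF.XT f (Over.mk (𝟙 (Spec (CommRingCat.of k))))))) := by
  rw [← PicGrp.one_val, ← ev_pl hP, map_one]

variable (K) (f) in
/-- What the tangent computation uses of the functor of points near a rational point. -/
structure TanData (e₀ : Over.mk (𝟙 (Spec (CommRingCat.of k))) ⟶ P) where
  ev : ∀ (A : Type u) [CommRing A] [Algebra K A],
    PicLoc.PicSet (PicF.XT f (Over.mk (tS k (K := K) A))) → (Over.mk (tS k (K := K) A) ⟶ P)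
  ev_one : ∀ (A : Type u) [CommRing A] [Algebra K A],
    ev A 1 = Over.homMk (V := Over.mk (𝟙 (Spec (CommRingCat.of k)))) (tS k (K := K) A) (Category.comp_id _) ≫ e₀
  natural : ∀ {A B : Type u} [CommRing A] [Algebra K A] [CommRing B] [Algebra K B] (π : A →ₐ[K] K)
    (π' : B →ₐ[K] K), IsNilpotent (RingHom.ker π.toRingHom) → IsNilpotent (RingHom.ker π'.toRingHom) →
    ∀ (α : A →ₐ[K] B) (c : PicLoc.PicSet (PicF.XT f (Over.mk (tS k (K := K) A)))),
      NPow20.pl (PicF.XTmap f (th π)) c = 1 → ev B (NPow20.pl (PicF.XTmap f (th α)) c) = th α ≫ ev A c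
  surj : ∀ {A : Type u} [CommRing A] [Algebra K A] (π : A →ₐ[K] K), IsNilpotent (RingHom.ker π.toRingHom) →
    ∀ v : Over.mk (tS k (K := K) A) ⟶ P,
      th π ≫ v = Over.homMk (V := Over.mk (𝟙 (Spec (CommRingCat.of k)))) (tS k (K := K) K) (Category.comp_id _) ≫ e₀ →
      ∃ c, NPow20.pl (PicF.XTmap f (th π)) c = 1 ∧ ev A c = v
  inj : ∀ {A : Type u} [CommRing A] [Algebra K A] (π : A →ₐ[K] K), IsNilpotent (RingHom.ker π.toRingHom) →
    ∀ c c', NPow20.pl (PicF.XTmap f (th π)) c = 1 → NPow20.pl (PicF.XTmap f (th π)) c' = 1 →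
      ev A c = ev A c' → c = c'

/-- The tangent space at a rational point is `H¹` of the base change, given the points near it. -/
theorem TanData.finrank_cotangent_eq [LocallyOfFiniteType P.hom]
    {e₀ : Over.mk (𝟙 (Spec (CommRingCat.of k))) ⟶ P} (Dt : TanData K f e₀) :
    Module.finrank (IsLocalRing.ResidueField (P.left.presheaf.stalk (ptE e₀)))
        (IsLocalRing.CotangentSpace (P.left.presheaf.stalk (ptE e₀))) =
      Module.finrank K (Coh.HH (XK K f) (Coh.structureModule (XK K f)) 1) := by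
  haveI : IsLocallyNoetherian P.left := LocallyOfFiniteType.isLocallyNoetherian P.hom
  obtain ⟨D, hD1, hD2, hD3, hD4⟩ := exists_universalTangent (cst e₀).hom (evE e₀).hom
    (congrArg CommRingCat.Hom.hom (cst_evE e₀)) (algebraMap k K)
  generalize hn : Module.finrank (IsLocalRing.ResidueField (P.left.presheaf.stalk (ptE e₀)))
    (IsLocalRing.CotangentSpace (P.left.presheaf.stalk (ptE e₀))) = n at D
  let ψ : (TrivSqZeroExt K (Fin n → K)) →ₐ[K] K := TrivSqZeroExt.fstHom K K (Fin n → K)
  let π : DualNumber K →ₐ[K] K := TrivSqZeroExt.fstHom K K K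
  have hψ : IsNilpotent (RingHom.ker ψ.toRingHom) := by
    refine ⟨2, le_bot_iff.1 ?_⟩
    rw [show (2 : ℕ) = 1 + 1 from rfl, Submodule.pow_succ, Submodule.pow_one, Ideal.mul_le]
    intro a ha b hb
    rw [RingHom.mem_ker] at ha hb
    refine TrivSqZeroExt.ext (by simp [show a.fst = 0 from ha]) ?_
    simp [show a.fst = 0 from ha, show b.fst = 0 from hb]
  have hπ : IsNilpotent (RingHom.ker π.toRingHom) := isNilpotent_ker_fst
  have hA := good_thick f ψ hψ (k := k)
  have hE := good_thick f π hπ (k := k)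
  have hev : ∀ {A : Type u} [CommRing A] [Algebra K A] (d : P.left.presheaf.stalk (ptE e₀) →+* A) (hd),
      (∀ a, d a = algebraMap K A (algebraMap k K ((evE e₀).hom a))) →
      pt e₀ d hd = Dt.ev A 1 := by
    intro A _ _ d hd h
    rw [Dt.ev_one, pt_trivial e₀ d hd h]
  -- tangent vectors of the local ring
  have hdc : ∀ (L : (Fin n → K) →ₗ[K] K) (c : k), ((TrivSqZeroExt.map L).toRingHom.comp D) ((cst e₀).hom c) =
      algebraMap K (DualNumber K) (algebraMap k K c) := fun L c => by
    show TrivSqZeroExt.map L (D _) = _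
    rw [hD2, TrivSqZeroExt.map_inl]
    rfl
  -- each tangent vector is the value of a class `1 + ε h`
  have htan : ∀ (d : P.left.presheaf.stalk (ptE e₀) →+* DualNumber K) (hd),
      (∀ a, TrivSqZeroExt.fst (d a) = algebraMap k K ((evE e₀).hom a)) →
      ∃ h, Dt.ev _ (cls f hE (DualNumber.eps_mul_eps (R := K)) h) = pt e₀ d hd := by
    intro d hd hd1
    obtain ⟨c, h0, hc⟩ := Dt.surj π hπ (pt e₀ d hd) (by
      have hd' : ∀ x, (π.toRingHom.comp d) ((cst e₀).hom x) = algebraMap K K (algebraMap k K x) := fun x => by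
        show π (d _) = _
        rw [hd x, π.commutes]
      rw [th_pt e₀ π d hd hd', ← Dt.ev_one]
      exact hev _ _ fun a => hd1 a)
    have hi : th π ≫ th (Algebra.ofId K (DualNumber K)) = 𝟙 (Over.mk (tS k (K := K) K)) := by
      rw [th_comp, ← th_id]
      congr 1
    obtain ⟨h, hh⟩ := exists_nuCls_eps (c := PicF.XTproj f (Over.mk (tS k (K := K) K))) (isPullback_thick f) hE
      (PicF.XTmap f (th π)) (by rw [← HilbBC25.XTmap_comp, hi, HilbBC25.XTmap_id]) (HilbBC25.XTmap_snd f _) c h0
    exact ⟨h, by rw [cls, hh, hc]⟩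
  have hI : IsNilpotent (RingHom.ker (AlgHom.id K K).toRingHom) := ⟨1, by
    rw [pow_one]; exact RingHom.ker_eq_bot_iff_eq_zero _ |>.2 fun _ h => h⟩
  have hG0 := good_thick f (A := K) (AlgHom.id K K) hI (k := k)
  have hredE : ∀ x, NPow20.pl (PicF.XTmap f (th π)) (cls f hE (DualNumber.eps_mul_eps (R := K)) x) = 1 := fun x => by
    rw [pl_cls f hG0 π _ (t' := (0 : K)) (mul_zero _) (show π (ε : DualNumber K) = 0 from DualNumber.fst_eps),
      cls_zero f hG0 _ rfl]
  choose h hh using fun i : Fin n => htan ((TrivSqZeroExt.map (LinearMap.proj i)).toRingHom.comp D) (hdc _)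
    (fun a => by show (TrivSqZeroExt.map _ (D a)).fst = _; rw [TrivSqZeroExt.fst_map, hD1])
  -- the class of the universal tangent vector
  let ei : Fin n → (TrivSqZeroExt K (Fin n → K)) := fun i => TrivSqZeroExt.inr (Pi.single i 1)
  have hei : ∀ i, ei i * ei i = 0 := fun i => TrivSqZeroExt.inr_mul_inr K _ _
  let cu : PicLoc.PicSet (PicF.XT f (Over.mk (tS k (K := K) (TrivSqZeroExt K (Fin n → K))))) := ∏ i, cls f hA (hei i) (h i)
  have hpush : ∀ lam : Fin n → K, NPow20.pl (PicF.XTmap f (th (TrivSqZeroExt.map (∑ i, lam i • LinearMap.proj i)))) cu =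
      cls f hE (DualNumber.eps_mul_eps (R := K)) (∑ i, lam i • h i) := fun lam => by
    rw [map_prod, cls, map_sum, toMul_sum]
    refine Finset.prod_congr rfl fun i _ => ?_
    have ht' : (lam i • (ε : DualNumber K)) * (lam i • (ε : DualNumber K)) = 0 := by
      rw [smul_mul_smul_comm, DualNumber.eps_mul_eps, smul_zero]
    refine (pl_cls f hE _ (hei i) ht' ?_ (h i)).trans (cls_smul f hE _ (lam i) ht' rfl (h i))
    show TrivSqZeroExt.map _ (TrivSqZeroExt.inr (Pi.single i 1)) = _
    rw [TrivSqZeroExt.map_inr, DualNumber.eps, ← TrivSqZeroExt.inr_smul]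
    congr 1
    simp [Pi.single_apply, Finset.sum_apply]
  have hredU : NPow20.pl (PicF.XTmap f (th ψ)) cu = 1 := by
    rw [map_prod]
    refine Finset.prod_eq_one fun i _ => ?_
    rw [pl_cls f hG0 ψ (hei i) (t' := (0 : K)) (mul_zero _)
      (show ψ (ei i) = 0 from TrivSqZeroExt.fst_inr K (Pi.single i (1 : K) : Fin n → K)), cls_zero f hG0 _ rfl]
  obtain ⟨d, hd, hcu⟩ : ∃ d hd, Dt.ev _ cu = pt e₀ d hd := by
    refine exists_pt e₀ ψ hψ _ ?_
    rw [← Dt.natural ψ (AlgHom.id K K) hψ hI ψ cu hredU, hredU, Dt.ev_one]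
  have hdD : d = D := by
    refine RingHom.ext fun a => TrivSqZeroExt.ext ?_ (funext fun j => ?_)
    · have h1 := congrArg (fun v => th ψ ≫ v) hcu
      rw [← Dt.natural ψ (AlgHom.id K K) hψ hI ψ cu hredU, hredU] at h1
      have hd1 : ∀ c, (ψ.toRingHom.comp d) ((cst e₀).hom c) = algebraMap K K (algebraMap k K c) := fun c => by
        show ψ (d _) = _
        rw [hd c, ψ.commutes]
      rw [th_pt e₀ ψ d hd hd1, ← hev ((algebraMap k K).comp (evE e₀).hom) (fun c => by
        show algebraMap k K _ = _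
        rw [show (evE e₀).hom ((cst e₀).hom c) = c from ConcreteCategory.congr_hom (cst_evE e₀) c]; rfl)
        (fun a => rfl)] at h1
      exact ((RingHom.congr_fun (pt_inj e₀ h1) a).symm.trans (hD1 a).symm)
    · have h1 := congrArg (fun v => th (TrivSqZeroExt.map (LinearMap.proj j)) ≫ v) hcu
      have hj : (∑ i, (Pi.single j (1 : K) : Fin n → K) i • (LinearMap.proj i : (Fin n → K) →ₗ[K] K)) = LinearMap.proj j := by
        simp [Pi.single_apply]
      have hj' : (∑ i, (Pi.single j (1 : K) : Fin n → K) i • h i) = h j := by simp [Pi.single_apply]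
      rw [← Dt.natural ψ π hψ hπ _ cu hredU, ← hj, hpush, hj', hj, hh j] at h1
      have hd1 : ∀ c, ((TrivSqZeroExt.map (LinearMap.proj j)).toRingHom.comp d) ((cst e₀).hom c) =
          algebraMap K (DualNumber K) (algebraMap k K c) := fun c => by
        show TrivSqZeroExt.map _ (d _) = _
        rw [hd c, AlgHom.commutes]
      rw [th_pt e₀ _ d hd hd1] at h1
      have h2 := congrArg TrivSqZeroExt.snd (RingHom.congr_fun (pt_inj e₀ h1) a)
      have h3 : ∀ y : TrivSqZeroExt K (Fin n → K),
          TrivSqZeroExt.snd (TrivSqZeroExt.map (LinearMap.proj j) y) = TrivSqZeroExt.snd y j :=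
        fun y => TrivSqZeroExt.snd_map _ y
      exact ((h3 _).symm.trans h2.symm).trans (h3 _)
  subst hdD
  have hval : ∀ lam : Fin n → K, Dt.ev _ (cls f hE (DualNumber.eps_mul_eps (R := K)) (∑ i, lam i • h i)) =
      pt e₀ ((TrivSqZeroExt.map (∑ i, lam i • LinearMap.proj i)).toRingHom.comp d) (hdc _) := fun lam => by
    rw [← hpush, Dt.natural ψ π hψ hπ _ cu hredU, hcu, th_pt e₀ _ d hd]
  have hinj : Function.Injective (cls f hE (DualNumber.eps_mul_eps (R := K))) := fun a b e =>
    nuCls_eps_injective (c := PicF.XTproj f (Over.mk (tS k (K := K) K))) (isPullback_thick f) hE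
      (Additive.toMul.injective e)
  have hLI : LinearIndependent K h := by
    rw [Fintype.linearIndependent_iff]
    intro lam hlam j
    have h1 := hval lam
    rw [hlam, show cls f hE (DualNumber.eps_mul_eps (R := K)) 0 = 1 by rw [cls, map_zero]; rfl,
      ← hev ((algebraMap K (DualNumber K)).comp ((algebraMap k K).comp (evE e₀).hom)) (fun c => by
        show algebraMap K _ (algebraMap k K _) = _
        rw [show (evE e₀).hom ((cst e₀).hom c) = c from ConcreteCategory.congr_hom (cst_evE e₀) c])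
        (fun a => rfl)] at h1
    obtain ⟨a, ha⟩ := hD3 j
    have h2 := congrArg TrivSqZeroExt.snd (RingHom.congr_fun (pt_inj e₀ h1) a)
    rw [RingHom.comp_apply, RingHom.comp_apply] at h2
    simp only [TrivSqZeroExt.algebraMap_eq_inl, TrivSqZeroExt.snd_inl, AlgHom.toRingHom_eq_coe, RingHom.coe_coe,
      TrivSqZeroExt.snd_map, ha] at h2
    have h3 : (∑ i, lam i * (d a).snd i) = 0 := by simpa using h2.symm
    rw [ha] at h3
    simpa [Pi.single_apply] using h3
  have hsp : ∀ x, x ∈ Submodule.span K (Set.range h) := fun x => by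
    have hx : th π ≫ Dt.ev _ (cls f hE (DualNumber.eps_mul_eps (R := K)) x) =
        Over.homMk (V := Over.mk (𝟙 (Spec (CommRingCat.of k)))) (tS k (K := K) K) (Category.comp_id _) ≫ e₀ := by
      rw [← Dt.natural π (AlgHom.id K K) hπ hI π _ (hredE x), hredE, Dt.ev_one]
    obtain ⟨g, hg, hgx⟩ := exists_pt e₀ π hπ _ hx
    have hg1 : ∀ a, TrivSqZeroExt.fst (g a) = algebraMap k K ((evE e₀).hom a) := fun a => by
      have h1 := congrArg (fun v => th π ≫ v) hgx
      have hd1 : ∀ c, (π.toRingHom.comp g) ((cst e₀).hom c) = algebraMap K K (algebraMap k K c) := fun c => by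
        show π (g _) = _
        rw [hg c, π.commutes]
      have hd0 : ∀ c, ((algebraMap k K).comp (evE e₀).hom) ((cst e₀).hom c) = algebraMap K K (algebraMap k K c) :=
        fun c => by
        show algebraMap k K _ = _
        rw [show (evE e₀).hom ((cst e₀).hom c) = c from ConcreteCategory.congr_hom (cst_evE e₀) c]; rfl
      rw [hx, th_pt e₀ π g hg hd1] at h1
      replace h1 := (pt_trivial e₀ ((algebraMap k K).comp (evE e₀).hom) hd0 (fun a => rfl)).trans h1
      exact (RingHom.congr_fun (pt_inj e₀ h1) a).symm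
    obtain ⟨lam, hlam⟩ := hD4 g hg1 hg
    have e : g = (TrivSqZeroExt.map (∑ i, lam i • LinearMap.proj i)).toRingHom.comp d :=
      RingHom.ext fun a => TrivSqZeroExt.ext
        (by show _ = (TrivSqZeroExt.map _ (d a)).fst; rw [TrivSqZeroExt.fst_map, hg1, hD1])
        (by show _ = (TrivSqZeroExt.map _ (d a)).snd; rw [TrivSqZeroExt.snd_map, hlam]; simp)
    have hx2 : x = ∑ i, lam i • h i := by
      refine hinj (Dt.inj π hπ _ _ (hredE x) (hredE _) ?_)
      rw [hgx, hval, pt_congr e₀ e]
    rw [hx2]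
    exact Submodule.sum_mem _ fun i _ => Submodule.smul_mem _ _ (Submodule.subset_span ⟨i, rfl⟩)
  exact ((Module.finrank_eq_card_basis (Module.Basis.mk hLI fun x _ => hsp x)).trans (Fintype.card_fin n)).symm

/-- A relative Picard scheme gives the data at the origin. -/
def tanDataOfIsRelPic [IsAlgClosed K] (hP : PicRel.IsRelPic f P φ)
    {e₀ : Over.mk (𝟙 (Spec (CommRingCat.of k))) ⟶ P}
    (he₀ : φ (Over.mk (𝟙 (Spec (CommRingCat.of k))))
      (PicF.cl (Coh.structureModule (PicF.XT f (Over.mk (𝟙 (Spec (CommRingCat.of k))))))) = e₀) : TanData K f e₀ where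
  ev A _ _ c := φ (Over.mk (tS k (K := K) A)) c.1
  ev_one A _ _ := by rw [ev_one hP, he₀]
  natural _ _ _ _ α c _ := ev_pl hP (th α) c
  surj {A} _ _ π hn v hv := by
    obtain ⟨c, hc⟩ := exists_class hP π.toRingHom (fun a => ⟨algebraMap K _ a, π.commutes a⟩) hn _ v
    refine ⟨c, class_unique hP (RingHom.id K) Function.surjective_id ⟨1, ?_⟩ _ _ _ ?_, hc⟩
    · rw [pow_one]
      exact RingHom.ker_eq_bot_iff_eq_zero _ |>.2 fun _ h => h
    · rw [ev_pl hP, hc, hv, ev_one hP, he₀]
  inj π hn c c' _ _ h := class_unique hP π.toRingHom (fun a => ⟨algebraMap K _ a, π.commutes a⟩) hn _ c c' h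

/-- The tangent space of the Picard scheme at the origin is `H¹` of the base change to an algebraic closure. -/
theorem finrank_cotangent_eq [LocallyOfFiniteType P.hom] (hP : PicRel.IsRelPic f P φ)
    (e₀ : Over.mk (𝟙 (Spec (CommRingCat.of k))) ⟶ P)
    (he₀ : φ (Over.mk (𝟙 (Spec (CommRingCat.of k))))
      (PicF.cl (Coh.structureModule (PicF.XT f (Over.mk (𝟙 (Spec (CommRingCat.of k))))))) = e₀) :
    Module.finrank (IsLocalRing.ResidueField (P.left.presheaf.stalk (ptE e₀)))
        (IsLocalRing.CotangentSpace (P.left.presheaf.stalk (ptE e₀))) =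
      Module.finrank K (Coh.HH (XK K f) (Coh.structureModule (XK K f)) 1) :=
  (tanDataOfIsRelPic (K := K) hP he₀).finrank_cotangent_eq

end Pic

end Groth.Agent.PicTan20
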