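import Groth.Agent.Lib.PicTan20.DegFun
import Groth.Agent.Lib.Abel10.FieldPt
import Groth.Agent.Lib.Abel10.Elliptic
import Groth.Agent.Lib.CurvOpen16.Loci
import Groth.Agent.S12411
import Groth.Agent.S15990
import Groth.Agent.S2768

/-!
# Algebraically trivial classes on families of curves are the classes of degree zero
-/

set_option autoImplicit false
set_option linter.style.haveILetI false
set_option maxHeartbeats 1000000
set_option backward.isDefEq.respectTransparency false
set_option backward.isDefEq.respectTransparency.types false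

universe u

open CategoryTheory CategoryTheory.Limits AlgebraicGeometry

noncomputable section

namespace Groth.Agent.PicTan20

noncomputable local instance instLawPicZeroDeg (Y : Scheme.{u}) : PicGrp.Law Y := M2.law Y

variable {C S : Scheme.{u}} (f : C ⟶ S) [IsProper f] [Smooth f] [GeometricallyConnected f]
  (hdim : ∀ s : S, topologicalKrullDim ↥(f.fiber s) = 1)

include hdim in
/-- A smooth family of connected curves is smooth of relative dimension one. -/
theorem smoothOfRelativeDimension_one : SmoothOfRelativeDimension 1 f := by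
  refine (CurvOpen16.smoothOfRelativeDimension_one_iff f).2 fun a => ⟨⟨⊤, trivial, inferInstance⟩, ?_⟩
  let s := f a
  letI : (f.fiber s).Over (Spec (CommRingCat.of (S.residueField s))) := ⟨f.fiberToSpecResidueField s⟩
  have sq : IsPullback (f.fiberι s) (f.fiber s ↘ Spec (CommRingCat.of (S.residueField s))) f
      (S.fromSpecResidueField s) := IsPullback.of_hasPullback _ _
  haveI := Abel10.smooth_fieldPt sq
  haveI := Abel10.isIntegral_fieldPt sq
  haveI := CurveCartier25.smoothOfRelativeDimension_one (f.fiber s ↘ Spec (CommRingCat.of (S.residueField s))) (hdim s)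
  obtain ⟨z, hz⟩ : a ∈ Set.range (f.fiberι s) := (f.range_fiberι s).ge rfl
  have h := FibDim14.fibreDimAt_baseChange sq z
  rw [hz] at h
  rw [← h]
  exact S2768.result 1 _ z

include hdim in
/-- The inverse of the ideal of the diagonal and its section. -/
theorem exists_diag : ∃ (L : (pullback f f).Modules) (_ : PicF.IsInvertible L) (σ : Γ(L, (⊤ : (pullback f f).Opens))),
    Abel10.LocEq L (pullback.diagonal f).ker σ := by
  haveI := smoothOfRelativeDimension_one f hdim
  haveI := smoothOfRelativeDimension_isStableUnderBaseChange 1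
  haveI : SmoothOfRelativeDimension 1 (pullback.snd f f) :=
    MorphismProperty.of_isPullback (P := @SmoothOfRelativeDimension 1) (IsPullback.of_hasPullback f f) inferInstance
  have hJ : BlowUp.IsEffCartierIdeal (pullback.diagonal f).ker :=
    (S15990.result (pullback.snd f f) (pullback.diagonal f) (pullback.diagonal_snd f)).1
  obtain ⟨D, hD, ⟨eD⟩⟩ := M2.exists_inverse (M2.isInvertible_idealMod _ hJ)
  obtain ⟨σ, hσ⟩ := Abel10.exists_locEq hJ hD (M2.tensorComm _ _ ≪≫ eD)
  exact ⟨D, hD, σ, hσ⟩

section Point

variable {T : Over S} {Ω : Type u} [Field Ω] (s : Spec (CommRingCat.of Ω) ⟶ T.left)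

/-- The structure of the geometric fibre over the field. -/
local instance fieldPtOver : (pullback (PicF.XTproj f T) s).Over (Spec (CommRingCat.of Ω)) :=
  ⟨pullback.snd (PicF.XTproj f T) s⟩

omit [IsProper f] [Smooth f] [GeometricallyConnected f] in
theorem fieldPt_sq : IsPullback (pullback.fst (PicF.XTproj f T) s)
    (pullback (PicF.XTproj f T) s ↘ Spec (CommRingCat.of Ω)) (PicF.XTproj f T) s :=
  IsPullback.of_hasPullback _ _

omit [IsProper f] [Smooth f] [GeometricallyConnected f] in
theorem fieldPt_sq' : IsPullback (pullback.fst (PicF.XTproj f T) s ≫ pullback.fst f T.hom)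
    (pullback (PicF.XTproj f T) s ↘ Spec (CommRingCat.of Ω)) f (s ≫ T.hom) :=
  (fieldPt_sq f s).paste_horiz (IsPullback.of_hasPullback f T.hom)

/-- The degree of a class on the fibre at a field-valued point. -/
def degAt (L : (PicF.XT f T).Modules) : ℤ :=
  Curv2.deg Ω (pullback (PicF.XTproj f T) s) ((Scheme.Modules.pullback (pullback.fst (PicF.XTproj f T) s)).obj L) 1

include hdim in
theorem degAt_eq {L : (PicF.XT f T).Modules} (hL : PicF.IsInvertible L) :
    degAt f s L = degMod f T (s (IsLocalRing.closedPoint Ω)) L := by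
  let p := PicF.XTproj f T
  haveI : IsProper p := inferInstanceAs (IsProper (pullback.snd f T.hom))
  haveI : Smooth p := inferInstanceAs (Smooth (pullback.snd f T.hom))
  haveI : GeometricallyConnected p := inferInstanceAs (GeometricallyConnected (pullback.snd f T.hom))
  let t := s (IsLocalRing.closedPoint Ω)
  letI : (p.fiber t).Over (Spec (CommRingCat.of (T.left.residueField t))) := ⟨p.fiberToSpecResidueField t⟩
  haveI : IsProper (p.fiber t ↘ Spec (CommRingCat.of (T.left.residueField t))) :=
    MorphismProperty.pullback_snd (P := @IsProper) _ _ inferInstance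
  have hd : topologicalKrullDim ↥(p.fiber t) ≤ ((1 : ℕ) : WithBot ℕ∞) :=
    (Abel10.topologicalKrullDim_fiber_snd f T.hom hdim t).le
  refine (Abel10.deg_fieldPt (f := p) (fieldPt_sq f s) hL).trans ?_
  rw [Curv2.deg, Nat.cast_one, one_mul]
  exact congrArg₂ (fun a b : ℤ => a - b)
    (Snapper.eulerCharLE_eq_euler (k := T.left.residueField t) (X := p.fiber t) 1 hd
      (Snapper.isCoh_of_isInvertible (PicLoc.isInvertible_pullback _ hL))).symm
    (Snapper.eulerCharLE_eq_euler (k := T.left.residueField t) (X := p.fiber t) 1 hd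
      (M1.isCoh_structureModule _)).symm

include hdim in
theorem degAt_mul {L M : (PicF.XT f T).Modules} (hL : PicF.IsInvertible L) (hM : PicF.IsInvertible M) :
    degAt f s (CohB1.tensorMod L M) = degAt f s L + degAt f s M := by
  have h := fieldPt_sq' f s
  haveI := Abel10.isProper_fieldPt h
  haveI := Abel10.isIntegral_fieldPt h
  have hX := CurveAmple18.curveLike Ω _ (Abel10.topologicalKrullDim_fieldPt h hdim).le
  haveI := hX.noetherian
  rw [degAt, CurveCoh17.deg_iso (M2.pullTensorIso _ L M),
    hX.deg_tensor_invertible (PicLoc.isInvertible_pullback _ hL) (PicLoc.isInvertible_pullback _ hM)]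
  rfl

include hdim in
theorem isAlgEquivZero_iff [IsAlgClosed Ω] {L : (PicF.XT f T).Modules} (hL : PicF.IsInvertible L) :
    Pic13.IsAlgEquivZero Ω (pullback (PicF.XTproj f T) s)
      ((Scheme.Modules.pullback (pullback.fst (PicF.XTproj f T) s)).obj L) ↔ degAt f s L = 0 := by
  have h := fieldPt_sq' f s
  haveI := Abel10.isProper_fieldPt h
  haveI := Abel10.smooth_fieldPt h
  haveI := Abel10.geometricallyConnected_fieldPt h
  haveI := Abel10.isIntegral_fieldPt h
  have hd := Abel10.topologicalKrullDim_fieldPt h hdim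
  haveI : ConnectedSpace ↥(pullback (PicF.XTproj f T) s) := VB17.connectedSpace_of_geometricallyConnected (k := Ω)
  haveI : IsNoetherian (pullback (PicF.XTproj f T) s) :=
    CohFound.isNoetherian_of_isProper (pullback (PicF.XTproj f T) s ↘ Spec (CommRingCat.of Ω))
  have hL' := PicLoc.isInvertible_pullback (pullback.fst (PicF.XTproj f T) s) hL
  refine (S12411.result Ω _ hd _ hL').trans ?_
  rw [degAt, Curv2.deg, Nat.cast_one, one_mul]
  have key : ∀ {M : (pullback (PicF.XTproj f T) s).Modules}, Coh.IsCoh M →
      FGA.eulerCharLE Ω (pullback (PicF.XTproj f T) s) M 1 = Curv2.euler Ω _ M :=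
    fun hM => Snapper.eulerCharLE_eq_euler (k := Ω) 1 hd.le hM
  rw [← key (Snapper.isCoh_of_isInvertible hL'), ← key (M1.isCoh_structureModule _)]
  exact Iff.rfl

end Point

include hdim in
/-- A class is algebraically trivial on the geometric fibres iff its fibre degrees vanish. -/
theorem isPicZeroCl_iff_degCl {T : Over S} {c : PicF.Cl (PicF.XT f T)} (hc : PicF.IsInvertibleCl c) :
    AbDual.IsPicZeroCl f T c ↔ ∀ t, degCl f T t c = 0 := by
  constructor
  · rintro ⟨L, rfl, hL, halg⟩ t
    let Ω := AlgebraicClosure (T.left.residueField t)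
    let s : Spec (CommRingCat.of Ω) ⟶ T.left :=
      Spec.map (CommRingCat.ofHom (algebraMap (T.left.residueField t) Ω)) ≫ T.left.fromSpecResidueField t
    have hs : ∀ z, s z = t := fun z => by
      rw [show s z = (T.left.fromSpecResidueField t)
        ((Spec.map (CommRingCat.ofHom (algebraMap (T.left.residueField t) Ω))) z) from Scheme.Hom.comp_apply _ _ _]
      exact Scheme.fromSpecResidueField_apply t _
    have h := (isAlgEquivZero_iff f hdim s hL).1 (halg t Ω s
      (Set.eq_singleton_iff_unique_mem.2 ⟨⟨IsLocalRing.closedPoint Ω, hs _⟩, by rintro _ ⟨z, rfl⟩; exact hs z⟩))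
    rwa [degAt_eq f hdim s hL, hs, ← degCl_cl] at h
  · intro h
    obtain ⟨L, rfl, hL⟩ := hc
    refine ⟨L, rfl, hL, fun t Ω _ _ s hst => (isAlgEquivZero_iff f hdim s hL).2 ?_⟩
    rw [degAt_eq f hdim s hL, ← degCl_cl]
    exact h _

include hdim in
theorem degCl_mul {T : Over S} (t : T.left) (a b : PicLoc.PicSet (PicF.XT f T)) :
    degCl f T t (a * b).1 = degCl f T t a.1 + degCl f T t b.1 := by
  obtain ⟨L, hL, rfl⟩ := PicGrp.exists_eq_cls a
  obtain ⟨M, hM, rfl⟩ := PicGrp.exists_eq_cls b
  let Ω := AlgebraicClosure (T.left.residueField t)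
  let s : Spec (CommRingCat.of Ω) ⟶ T.left :=
    Spec.map (CommRingCat.ofHom (algebraMap (T.left.residueField t) Ω)) ≫ T.left.fromSpecResidueField t
  have hs : s (IsLocalRing.closedPoint Ω) = t := by
    rw [show s (IsLocalRing.closedPoint Ω) = (T.left.fromSpecResidueField t)
      ((Spec.map (CommRingCat.ofHom (algebraMap (T.left.residueField t) Ω))) (IsLocalRing.closedPoint Ω)) from
      Scheme.Hom.comp_apply _ _ _]
    exact Scheme.fromSpecResidueField_apply t _
  rw [AlgEquiv22.cls_tensor hL hM]
  show degCl f T t (PicF.cl (CohB1.tensorMod L M)) = degCl f T t (PicF.cl L) + degCl f T t (PicF.cl M)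
  rw [degCl_cl, degCl_cl, degCl_cl, ← hs, ← degAt_eq f hdim s (M2.isInvertible_tensor hL hM),
    ← degAt_eq f hdim s hL, ← degAt_eq f hdim s hM, degAt_mul f hdim s hL hM]

include hdim in
/-- Classes algebraically trivial on the fibres are closed under products. -/
theorem isPicZeroCl_mul {T : Over S} {a b : PicLoc.PicSet (PicF.XT f T)} (ha : AbDual.IsPicZeroCl f T a.1)
    (hb : AbDual.IsPicZeroCl f T b.1) : AbDual.IsPicZeroCl f T (a * b).1 :=
  (isPicZeroCl_iff_degCl f hdim (a * b).2).2 fun t => by
    rw [degCl_mul f hdim, (isPicZeroCl_iff_degCl f hdim a.2).1 ha t, (isPicZeroCl_iff_degCl f hdim b.2).1 hb t]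
    rfl

end Groth.Agent.PicTan20
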