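import Groth.Agent.Lib.PicTan20.Tangent
import Groth.Agent.Lib.PicTan20.Degree
import Groth.Agent.Lib.ParaFDesc27.PointGen
import Groth.Agent.Lib.RigDesc22.Classes

/-!
# Points of a scheme with a universal rigidified class of degree zero, near a rational point
-/

set_option autoImplicit false
set_option linter.style.haveILetI false
set_option backward.isDefEq.respectTransparency false
set_option backward.isDefEq.respectTransparency.types false

universe u

open CategoryTheory CategoryTheory.Limits AlgebraicGeometry TopologicalSpace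

noncomputable section

namespace Groth.Agent.PicTan20

attribute [local instance] M2.law

/-- Invertible classes on the spectrum of a local ring are trivial. -/
theorem isTrivialCl_local {A : Type u} [CommRing A] [IsLocalRing A] {c : PicF.Cl (Spec (CommRingCat.of A))}
    (hc : PicF.IsInvertibleCl c) : PicF.IsTrivialCl c := by
  obtain ⟨L, rfl, hL⟩ := hc
  obtain ⟨D, t, hD, ht⟩ := ProjUP.exists_isGen_of_invertible hL (IsLocalRing.closedPoint A)
  obtain rfl : D = ⊤ := Opens.ext (Set.eq_univ_of_forall fun p => (IsLocalRing.specializes_closedPoint p).mem_open D.2 hD)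
  exact (PicGrp.cl_eq_cl_iff _ _).2 (ParaFDesc27.nonempty_iso_structure_of_gen t fun q =>
    ⟨⊤, trivial, by rwa [M1.mres_id]⟩)

variable {k : Type u} [Field k] {K : Type u} [Field K] [Algebra k K] {X : Scheme.{u}}
  (f : X ⟶ Spec (CommRingCat.of k)) [IsProper f] (σ : Spec (CommRingCat.of k) ⟶ X) (hσ : σ ≫ f = 𝟙 _)
  {J : Over (Spec (CommRingCat.of k))} (ξ : PicF.Rig f σ hσ J)
  {Q : ∀ T : Over (Spec (CommRingCat.of k)), PicF.Cl (PicF.XT f T) → Prop} (hξ : Q J ξ.1)
  (hpull : ∀ {T T' : Over (Spec (CommRingCat.of k))} (g : T' ⟶ T) {c : PicF.Cl (PicF.XT f T)},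
    PicF.IsInvertibleCl c → Q T c → Q T' (PicF.pullCl (PicF.XTmap f g) c))
  (hdesc : ∀ {T T' : Over (Spec (CommRingCat.of k))} (g : T' ⟶ T), IsClosedImmersion g.left → Surjective g.left →
    ∀ {c : PicF.Cl (PicF.XT f T)}, PicF.IsInvertibleCl c → Q T' (PicF.pullCl (PicF.XTmap f g) c) → Q T c)
  (huniv : ∀ (T : Over (Spec (CommRingCat.of k))) (c : PicF.Rig f σ hσ T), Q T c.1 →
    ∃! g : T ⟶ J, PicF.pullCl (PicF.XTmap f g) ξ.1 = c.1)

/-- The universal class. -/
abbrev uCls : PicLoc.PicSet (PicF.XT f J) := ⟨ξ.1, ξ.2.1⟩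

include hξ hpull huniv in
omit [IsProper f] in
theorem point_unique {T : Over (Spec (CommRingCat.of k))} {g g' : T ⟶ J}
    (h : NPow20.pl (PicF.XTmap f g) (uCls f σ hσ ξ) = NPow20.pl (PicF.XTmap f g') (uCls f σ hσ ξ)) : g = g' := by
  obtain ⟨w, -, hw⟩ := huniv T ⟨PicF.pullCl (PicF.XTmap f g) ξ.1,
    (NPow20.pl (PicF.XTmap f g) (uCls f σ hσ ξ)).2, RigDesc22.trivial_pull f σ hσ g ξ.2.2⟩
    (hpull g ξ.2.1 hξ)
  exact (hw g rfl).trans (hw g' (congrArg Subtype.val h).symm).symm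

variable (p : Over.mk (𝟙 (Spec (CommRingCat.of k))) ⟶ J)

/-- The constant point. -/
abbrev cPt (A : Type u) [CommRing A] [Algebra K A] : Over.mk (tS k (K := K) A) ⟶ J :=
  Over.homMk (V := Over.mk (𝟙 (Spec (CommRingCat.of k)))) (tS k (K := K) A) (Category.comp_id _) ≫ p

omit [IsProper f] in
theorem th_cPt {A B : Type u} [CommRing A] [Algebra K A] [CommRing B] [Algebra K B] (α : A →ₐ[K] B) :
    th α ≫ cPt (K := K) p A = cPt (K := K) p B := by
  rw [← Category.assoc]
  refine congrArg (· ≫ p) ?_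
  ext1
  exact Over.w (th (k := k) α)

open Classical in
/-- The point of a class near `p`. -/
def rigEv (A : Type u) [CommRing A] [Algebra K A] (c : PicLoc.PicSet (PicF.XT f (Over.mk (tS k (K := K) A)))) :
    Over.mk (tS k (K := K) A) ⟶ J :=
  if h : ∃ g, NPow20.pl (PicF.XTmap f g) (uCls f σ hσ ξ) =
      c * NPow20.pl (PicF.XTmap f (cPt (K := K) p A)) (uCls f σ hσ ξ) then h.choose else cPt (K := K) p A

include hξ hpull huniv in
omit [IsProper f] in
theorem rigEv_eq {A : Type u} [CommRing A] [Algebra K A] {c : PicLoc.PicSet (PicF.XT f (Over.mk (tS k (K := K) A)))}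
    {g : Over.mk (tS k (K := K) A) ⟶ J}
    (hg : NPow20.pl (PicF.XTmap f g) (uCls f σ hσ ξ) =
      c * NPow20.pl (PicF.XTmap f (cPt (K := K) p A)) (uCls f σ hσ ξ)) :
    rigEv f σ hσ ξ p A c = g := by
  have h : ∃ g, NPow20.pl (PicF.XTmap f g) (uCls f σ hσ ξ) =
      c * NPow20.pl (PicF.XTmap f (cPt (K := K) p A)) (uCls f σ hσ ξ) := ⟨g, hg⟩
  rw [rigEv, dif_pos h]
  exact point_unique f σ hσ ξ hξ hpull huniv (h.choose_spec.trans hg.symm)

include hξ hpull hdesc huniv in
omit [IsProper f] in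
theorem rigEv_spec {A : Type u} [CommRing A] [Algebra K A] (π : A →ₐ[K] K)
    (hn : IsNilpotent (RingHom.ker π.toRingHom)) {c : PicLoc.PicSet (PicF.XT f (Over.mk (tS k (K := K) A)))}
    (hc : NPow20.pl (PicF.XTmap f (th π)) c = 1) :
    NPow20.pl (PicF.XTmap f (rigEv f σ hσ ξ p A c)) (uCls f σ hσ ξ) =
      c * NPow20.pl (PicF.XTmap f (cPt (K := K) p A)) (uCls f σ hσ ξ) := by
  let d := c * NPow20.pl (PicF.XTmap f (cPt (K := K) p A)) (uCls f σ hσ ξ)
  have hs : Function.Surjective π.toRingHom := fun a => ⟨algebraMap K A a, π.commutes a⟩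
  have hmax : (RingHom.ker π.toRingHom).IsMaximal := RingHom.ker_isMaximal_of_surjective π.toRingHom hs
  have hle : ∀ (Q : Ideal A) [Q.IsPrime], RingHom.ker π.toRingHom ≤ Q := fun Q _ a ha => by
    obtain ⟨N, hN⟩ := hn
    refine Ideal.IsPrime.mem_of_pow_mem ‹_› N ?_
    have h1 : a ^ N ∈ RingHom.ker π.toRingHom ^ N := Ideal.pow_mem_pow ha N
    rw [hN] at h1
    rw [show a ^ N = 0 from h1]
    exact zero_mem _
  haveI : IsLocalRing A := IsLocalRing.of_unique_max_ideal ⟨_, hmax, fun Q hQ =>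
    (hmax.eq_of_le hQ.ne_top (haveI := hQ.isPrime; hle Q)).symm⟩
  have hsurj : Function.Surjective (th (k := k) π).left := fun x =>
    ⟨IsLocalRing.closedPoint K, PrimeSpectrum.ext (Eq.trans (b := RingHom.ker π.toRingHom) (by
      show Ideal.comap π.toRingHom (IsLocalRing.closedPoint K).asIdeal = _
      rw [show (IsLocalRing.closedPoint K).asIdeal = ⊥ from IsLocalRing.maximalIdeal_eq_bot]
      rfl) (hmax.eq_of_le x.2.ne_top (haveI := x.2; hle x.asIdeal)))⟩
  have hdeg : Q (Over.mk (tS k (K := K) A)) d.1 := by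
    haveI : IsClosedImmersion (th (k := k) π).left :=
      IsClosedImmersion.spec_of_surjective (CommRingCat.ofHom π.toRingHom) hs
    refine hdesc (th π) inferInstance ⟨hsurj⟩ d.2 ?_
    have : NPow20.pl (PicF.XTmap f (th π)) d = NPow20.pl (PicF.XTmap f (cPt (K := K) p K)) (uCls f σ hσ ξ) := by
      rw [map_mul, hc, one_mul, ← NPow20.pl_comp, ← HilbBC25.XTmap_comp, th_cPt (K := K) p π]
    rw [show PicF.pullCl (PicF.XTmap f (th π)) d.1 = PicF.pullCl (PicF.XTmap f (cPt (K := K) p K)) ξ.1 from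
      congrArg Subtype.val this]
    exact hpull (cPt (K := K) p K) ξ.2.1 hξ
  have hrig : PicF.IsTrivialCl (PicF.pullCl (PicF.secT f σ hσ (Over.mk (tS k (K := K) A))) d.1) :=
    isTrivialCl_local (NPow20.pl _ d).2
  obtain ⟨g, hg, -⟩ := huniv _ ⟨d.1, d.2, hrig⟩ hdeg
  have hg' : NPow20.pl (PicF.XTmap f g) (uCls f σ hσ ξ) = d := Subtype.ext hg
  rw [rigEv_eq f σ hσ ξ hξ hpull huniv p hg']
  exact hg'

/-- The data for the tangent computation at a rational point. -/
def rigTanData (hξ : Q J ξ.1)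
    (hpull : ∀ {T T' : Over (Spec (CommRingCat.of k))} (g : T' ⟶ T) {c : PicF.Cl (PicF.XT f T)},
      PicF.IsInvertibleCl c → Q T c → Q T' (PicF.pullCl (PicF.XTmap f g) c))
    (hdesc : ∀ {T T' : Over (Spec (CommRingCat.of k))} (g : T' ⟶ T), IsClosedImmersion g.left → Surjective g.left →
      ∀ {c : PicF.Cl (PicF.XT f T)}, PicF.IsInvertibleCl c → Q T' (PicF.pullCl (PicF.XTmap f g) c) → Q T c)
    (huniv : ∀ (T : Over (Spec (CommRingCat.of k))) (c : PicF.Rig f σ hσ T), Q T c.1 →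
      ∃! g : T ⟶ J, PicF.pullCl (PicF.XTmap f g) ξ.1 = c.1) : TanData K f p where
  ev A _ _ c := rigEv f σ hσ ξ p A c
  ev_one A _ _ := rigEv_eq f σ hσ ξ hξ hpull huniv p (one_mul _).symm
  natural {A B} _ _ _ _ π π' hn hn' α c hc := by
    refine rigEv_eq f σ hσ ξ hξ hpull huniv p ?_
    rw [HilbBC25.XTmap_comp, NPow20.pl_comp, rigEv_spec f σ hσ ξ hξ hpull hdesc huniv p π hn hc, map_mul, ← NPow20.pl_comp,
      ← HilbBC25.XTmap_comp, th_cPt (K := K) p α]
  surj {A} _ _ π hn v hv := by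
    refine ⟨NPow20.pl (PicF.XTmap f v) (uCls f σ hσ ξ) /
      NPow20.pl (PicF.XTmap f (cPt (K := K) p A)) (uCls f σ hσ ξ), ?_, ?_⟩
    · rw [map_div, div_eq_one, ← NPow20.pl_comp, ← HilbBC25.XTmap_comp, ← NPow20.pl_comp, ← HilbBC25.XTmap_comp,
        th_cPt (K := K) p π, hv]
    · exact rigEv_eq f σ hσ ξ hξ hpull huniv p (div_mul_cancel _ _).symm
  inj {A} _ _ π hn c c' hc hc' h := by
    have h1 := rigEv_spec f σ hσ ξ hξ hpull hdesc huniv p π hn hc
    rw [show rigEv f σ hσ ξ p A c = rigEv f σ hσ ξ p A c' from h, rigEv_spec f σ hσ ξ hξ hpull hdesc huniv p π hn hc'] at h1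
    exact (mul_right_cancel h1).symm

end Groth.Agent.PicTan20
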