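import Groth.Agent.Lib.GeomRed18.Smooth
import Groth.Agent.Lib.SmDim19.Basic
import Groth.Agent.Lib.WeilExt.Apply
import Groth.Agent.Lib.VarDim.Top
import Mathlib.FieldTheory.IsSepClosed

/-!
# The dimension of a smooth scheme over a separably closed field from the tangent spaces at rational points
-/

set_option autoImplicit false
set_option linter.style.haveILetI false
set_option backward.isDefEq.respectTransparency false
set_option backward.isDefEq.respectTransparency.types false

universe u

open CategoryTheory CategoryTheory.Limits AlgebraicGeometry TopologicalSpace Order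

namespace Groth.Agent.PicTan20

attribute [local instance] Curv2.stalkAlgebra Curv2.resAlgebra

variable {k : Type u} [Field k] {X : Scheme.{u}} [X.Over (Spec (CommRingCat.of k))]

/-- A smooth scheme over a field is, near every point, smooth of some relative dimension. -/
theorem exists_relDim_nhd [Smooth (X ↘ Spec (CommRingCat.of k))] (x : X) :
    ∃ (n : ℕ) (V : X.Opens), x ∈ V ∧ SmoothOfRelativeDimension n (V.ι ≫ (X ↘ Spec (CommRingCat.of k))) := by
  obtain ⟨U, hU, V, hV, hxV, e, hs⟩ := Smooth.exists_isStandardSmooth (X ↘ Spec (CommRingCat.of k)) x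
  let α := (X ↘ Spec (CommRingCat.of k)).appLE U V e
  letI := α.hom.toAlgebra
  haveI : Algebra.IsStandardSmooth Γ(Spec (CommRingCat.of k), U) Γ(X, V) := hs
  obtain ⟨ι, σ, hσ, hι, ⟨P⟩⟩ := Algebra.IsStandardSmooth.out (R := Γ(Spec (CommRingCat.of k), U)) (S := Γ(X, V))
  have hn : α.hom.IsStandardSmoothOfRelativeDimension P.dimension :=
    (⟨⟨ι, σ, hσ, hι, P, rfl⟩⟩ : Algebra.IsStandardSmoothOfRelativeDimension P.dimension _ _)
  refine ⟨P.dimension, V, hxV, ?_⟩
  have h1 : SmoothOfRelativeDimension P.dimension (Spec.map α) :=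
    (HasRingHomProperty.Spec_iff (P := @SmoothOfRelativeDimension P.dimension)).2
      (RingHom.locally_of RingHom.isStandardSmoothOfRelativeDimension_respectsIso _ hn)
  have h2 : SmoothOfRelativeDimension (0 + P.dimension) (Spec.map α ≫ hU.fromSpec) := by
    rw [zero_add]
    haveI := h1
    haveI : SmoothOfRelativeDimension 0 hU.fromSpec := inferInstance
    have h3 : SmoothOfRelativeDimension (P.dimension + 0) (Spec.map α ≫ hU.fromSpec) := inferInstance
    simpa using h3
  rw [zero_add, hU.SpecMap_appLE_fromSpec _ hV e] at h2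
  have h4 : SmoothOfRelativeDimension P.dimension (hV.isoSpec.inv ≫ V.ι ≫ (X ↘ Spec (CommRingCat.of k))) := by
    rw [← Category.assoc, hV.isoSpec_inv_ι]
    exact h2
  exact (MorphismProperty.cancel_left_of_respectsIso (@SmoothOfRelativeDimension P.dimension) _ _).1 h4

variable [IsSepClosed k]

/-- Nonempty opens of a smooth scheme over a separably closed field have rational points. -/
theorem exists_rational_point [Smooth (X ↘ Spec (CommRingCat.of k))] (W : X.Opens) {x : X} (hx : x ∈ W) :
    ∃ a : Spec (CommRingCat.of k) ⟶ X, a ≫ (X ↘ Spec (CommRingCat.of k)) = 𝟙 _ ∧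
      a (IsLocalRing.closedPoint k) ∈ W ∧ IsClosed ({a (IsLocalRing.closedPoint k)} : Set X) := by
  obtain ⟨y, hyW, hy, -, hsep⟩ := GeomRed.exists_separable_point (k := k) W hx
  haveI := hsep
  let e := RingEquiv.ofBijective (algebraMap k (X.residueField y)) (IsSepClosed.algebraMap_bijective k _)
  let a : Spec (CommRingCat.of k) ⟶ X := Spec.map (CommRingCat.ofHom e.symm.toRingHom) ≫ X.fromSpecResidueField y
  have hay : a (IsLocalRing.closedPoint k) = y := Scheme.fromSpecResidueField_apply y _
  refine ⟨a, ?_, by rw [hay]; exact hyW, by rw [hay]; exact hy⟩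
  show (_ ≫ _) ≫ _ = _
  rw [Category.assoc, ← GeomIrr.spec_resMap, ← Spec.map_comp, ← Spec.map_id]
  refine congrArg Spec.map (CommRingCat.hom_ext (RingHom.ext fun c => ?_))
  exact e.symm_apply_apply c

/-- If all tangent spaces at rational points have dimension `d`, so does the scheme. -/
theorem topologicalKrullDim_eq_of_rational [Smooth (X ↘ Spec (CommRingCat.of k))] [Nonempty X] (d : ℕ)
    (h : ∀ a : Spec (CommRingCat.of k) ⟶ X, a ≫ (X ↘ Spec (CommRingCat.of k)) = 𝟙 _ →
      Module.finrank (IsLocalRing.ResidueField (X.presheaf.stalk (a (IsLocalRing.closedPoint k))))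
        (IsLocalRing.CotangentSpace (X.presheaf.stalk (a (IsLocalRing.closedPoint k)))) = d) :
    topologicalKrullDim X = (d : WithBot ℕ∞) := by
  let f := X ↘ Spec (CommRingCat.of k)
  haveI : JacobsonSpace X := LocallyOfFiniteType.jacobsonSpace f
  haveI : IsLocallyNoetherian X := LocallyOfFiniteType.isLocallyNoetherian f
  have hcl : ∀ z : X, IsClosed ({z} : Set X) → ringKrullDim (X.presheaf.stalk z) = (d : WithBot ℕ∞) := by
    intro z hz
    obtain ⟨n, V, hzV, hn⟩ := exists_relDim_nhd (k := k) z
    haveI := hn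
    obtain ⟨a, ha, haV, hac⟩ := exists_rational_point (k := k) V hzV
    have hdim : ∀ w : X, w ∈ V → IsClosed ({w} : Set X) → ringKrullDim (X.presheaf.stalk w) = n := fun w hw hwc => by
      rw [← ringKrullDim_eq_of_ringEquiv (V.stalkIso ⟨w, hw⟩).commRingCatIsoToRingEquiv]
      refine SmDim19.ringKrullDim_stalk_of_isClosed (V.ι ≫ f) n ?_
      have : IsClosed (V.ι ⁻¹' {w} : Set V) := hwc.preimage V.ι.continuous
      convert this
      ext v
      exact ⟨fun hv => by rw [Set.mem_singleton_iff] at hv; subst hv; rfl,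
        fun hv => Subtype.ext hv⟩
    haveI := WeilExt.isRegularLocalRing_stalk_of_smooth f (a (IsLocalRing.closedPoint k))
    have h1 := (IsRegularLocalRing.iff_finrank_cotangentSpace _).1
      (inferInstance : IsRegularLocalRing (X.presheaf.stalk (a (IsLocalRing.closedPoint k))))
    rw [h a ha, hdim _ haV hac] at h1
    rw [hdim z hzV hz]
    exact h1.symm
  have hdim : topologicalKrullDim X = krullDim X := by
    rw [VarDim.scheme_dim_eq_iSup_height, krullDim_eq_iSup_height]
  rw [hdim, krullDim_eq_iSup_coheight]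
  refine le_antisymm (iSup_le fun x => ?_) ?_
  · obtain ⟨z, hz, hzc⟩ := nonempty_inter_closedPoints (Z := closure ({x} : Set X))
      ⟨x, subset_closure rfl⟩ isClosed_closure.isLocallyClosed
    refine le_trans (WithBot.coe_le_coe.2 (coheight_anti (Scheme.le_iff_specializes.2 (specializes_iff_mem_closure.2 hz)))) ?_
    rw [← ringKrullDim_stalk_eq_coheight, hcl z hzc]
  · obtain ⟨z, -, hzc⟩ := nonempty_inter_closedPoints (Z := (Set.univ : Set X)) Set.univ_nonempty isOpen_univ.isLocallyClosed
    refine le_trans ?_ (le_iSup (fun y : X => ((coheight y : ℕ∞) : WithBot ℕ∞)) z)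
    rw [← ringKrullDim_stalk_eq_coheight, hcl z hzc]

end Groth.Agent.PicTan20
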