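import Groth.Agent.Lib.PicTan20.Degree
import Groth.Agent.Lib.PicSm20.CurveLift
import Groth.Agent.Lib.DGen9.FibEuler
import Groth.Agent.Lib.CurveR1_10.Basic
import Groth.Agent.Lib.LimShf14.Pic
import Groth.Agent.Lib.Snapper.Vanish
import Groth.Agent.Lib.RigDesc22.Classes

/-!
# The degree on a representing scheme of the Picard functor of a family of curves
-/

set_option autoImplicit false
set_option linter.style.haveILetI false
set_option backward.isDefEq.respectTransparency false
set_option backward.isDefEq.respectTransparency.types false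

universe u

open CategoryTheory CategoryTheory.Limits AlgebraicGeometry

noncomputable section

namespace Groth.Agent.PicTan20

open Groth.Agent.PicDesc21 (mem_fppf_iff)

attribute [local instance] M2.law

variable {C S : Scheme.{u}} (f : C ⟶ S)

/-- The fibre degree of a module. -/
def degMod (T : Over S) (t : T.left) (L : (PicF.XT f T).Modules) : ℤ :=
  FGA.eulerCharLE (T.left.residueField t) (FGA.fibreAt f T t).left (FGA.restrFibre f T t L) 1 -
    FGA.eulerCharLE (T.left.residueField t) (FGA.fibreAt f T t).left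
      (Coh.structureModule (FGA.fibreAt f T t).left) 1

/-- The fibre degree of a class. -/
def degCl (T : Over S) (t : T.left) (c : PicF.Cl (PicF.XT f T)) : ℤ := degMod f T t (Quot.out c)

theorem degMod_congr (T : Over S) (t : T.left) {L L' : (PicF.XT f T).Modules} (e : L ≅ L') :
    degMod f T t L = degMod f T t L' := by
  exact congrArg (· - _) (eulerCharLE_congr (k := T.left.residueField t) (X := (FGA.fibreAt f T t).left)
    ((Scheme.Modules.pullback _).mapIso e) 1)

theorem degCl_cl (T : Over S) (t : T.left) (L : (PicF.XT f T).Modules) :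
    degCl f T t (PicF.cl L) = degMod f T t L := by
  obtain ⟨e⟩ := (PicGrp.cl_eq_cl_iff _ _).1 (Quot.out_eq (PicF.cl L))
  exact degMod_congr f T t e

variable [IsProper f]

theorem degCl_pull {T T' : Over S} (g : T' ⟶ T) (t : T'.left) {c : PicF.Cl (PicF.XT f T)}
    (hc : PicF.IsInvertibleCl c) :
    degCl f T' t (PicF.pullCl (PicF.XTmap f g) c) = degCl f T (g.left t) c := by
  obtain ⟨L, rfl, hL⟩ := hc
  have h := eulerLE_at_eq f g t (Twist.isQCoh_of_isInvertible hL)
  rw [degCl_cl, show PicF.pullCl (PicF.XTmap f g) (PicF.cl L) =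
    PicF.cl ((Scheme.Modules.pullback (PicF.XTmap f g)).obj L) from rfl, degCl_cl, degMod, degMod, h.1, h.2]

variable [Flat f] [LocallyOfFinitePresentation f]
  (hd : ∀ s : S, topologicalKrullDim ↥(f.fiber s) ≤ (1 : WithBot ℕ∞))

include hd in
theorem isLocallyConstant_degMod (T : Over S) {L : (PicF.XT f T).Modules} (hL : PicF.IsInvertible L) :
    IsLocallyConstant fun t => degMod f T t L := by
  let p := PicF.XTproj f T
  haveI : IsProper p := MorphismProperty.pullback_snd _ _ inferInstance
  haveI : Flat p := MorphismProperty.pullback_snd _ _ inferInstance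
  haveI : LocallyOfFinitePresentation p := MorphismProperty.pullback_snd _ _ inferInstance
  have key : ∀ {M : (PicF.XT f T).Modules}, PicF.IsInvertible M → IsLocallyConstant fun t : T.left =>
      FGA.eulerCharLE (T.left.residueField t) (FGA.fibreAt f T t).left (FGA.restrFibre f T t M) 1 := by
    intro M hM
    have h := FibEuler9.isLocallyConstant_eulerChar p M (LimShf14.isFP_of_isInvertible hM)
      (DPerf.isFlatOver_of_isFlat p (KFlat.Sch.isFlat_of_isFinLocFree (M2.isFinLocFree_of_isInvertible hM)))
    convert h using 1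
    funext t
    letI : (p.fiber t).Over (Spec (CommRingCat.of (T.left.residueField t))) := ⟨p.fiberToSpecResidueField t⟩
    haveI : IsProper (p.fiber t ↘ Spec (CommRingCat.of (T.left.residueField t))) :=
      MorphismProperty.pullback_snd (P := @IsProper) _ _ inferInstance
    have hdim : topologicalKrullDim ↥(p.fiber t) ≤ ((1 : ℕ) : WithBot ℕ∞) :=
      (p.fiberHomeo t).isHomeomorph.topologicalKrullDim_eq.trans_le
        ((PicSm20.topologicalKrullDim_preimage_le f hd T.hom t).trans (le_of_eq rfl))
    rw [PerfAux.eulerChar, finsum_eq_finsetSum_of_support_subset _ (s := Finset.range 2)]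
    · rfl
    · intro i hi
      simp only [Function.mem_support, ne_eq, Finset.coe_range, Set.mem_Iio] at hi ⊢
      by_contra hlt
      haveI := Snapper.subsingleton_HH_of_dim (T.left.residueField t) 1 hdim
        (M1.isQCoh_pullback (p.fiberι t) (Twist.isQCoh_of_isInvertible hM)) (n := i) (by omega)
      refine hi ?_
      rw [show PerfAux.betti p M t i = Module.finrank (T.left.residueField t)
          (Coh.HH (p.fiber t) ((Scheme.Modules.pullback (p.fiberι t)).obj M) i) from rfl,
        Module.finrank_zero_of_subsingleton, Nat.cast_zero, mul_zero]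
  have hO := key (PicLoc.isInvertible_structureModule (PicF.XT f T))
  have h : IsLocallyConstant fun t : T.left =>
      FGA.eulerCharLE (T.left.residueField t) (FGA.fibreAt f T t).left (FGA.restrFibre f T t L) 1 -
      FGA.eulerCharLE (T.left.residueField t) (FGA.fibreAt f T t).left
        (FGA.restrFibre f T t (Coh.structureModule _)) 1 := (key hL).comp₂ hO (· - ·)
  convert h using 1
  funext t
  exact congrArg (_ - ·) (eulerCharLE_congr (k := T.left.residueField t) (X := (FGA.fibreAt f T t).left)
    (Twist.pullbackUnitIso _).symm 1)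

include hd in
theorem exists_degree_pic {P : Over S} {φ : ∀ T : Over S, PicF.Cl (PicF.XT f T) → (T ⟶ P)}
    (hP : AbDual.IsRelPicK Scheme.fppfPrecoverage f P φ) :
    ∃ d : ↥P.left → ℤ, IsLocallyConstant d ∧
      ∀ (T : Over S) (L : (PicF.XT f T).Modules), PicF.IsInvertible L → ∀ t : T.left,
        d ((φ T (PicF.cl L)).left t) = degMod f T t L := by
  obtain ⟨R, hR, hR'⟩ := hP.locallySurjective P (𝟙 P)
  obtain ⟨ι, U, u, hu, huR⟩ := RigDesc22.exists_family hR
  choose c hc hcφ using fun i => hR' (u i) (huR i)
  obtain ⟨hsurj, hflat⟩ := mem_fppf_iff.1 hu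
  choose i x hx using hsurj
  let d : P.left → ℤ := fun p => degCl f (AbDual.ovr P (u (i p))) (x p) (c (i p))
  have hmain : ∀ (T : Over S) (L : (PicF.XT f T).Modules), PicF.IsInvertible L → ∀ t : T.left,
      d ((φ T (PicF.cl L)).left t) = degMod f T t L := by
    intro T L hL t
    let g := φ T (PicF.cl L)
    let j := i (g.left t)
    obtain ⟨w, hw1, hw2⟩ := Scheme.Pullback.exists_preimage_pullback (f := g.left) (g := u j) t (x (g.left t))
      (hx (g.left t)).symm
    let W : Over S := AbDual.ovr T (pullback.fst g.left (u j))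
    let a : W ⟶ T := AbDual.ovrHom T _
    let b : W ⟶ AbDual.ovr P (u j) := Over.homMk (pullback.snd g.left (u j))
      (show pullback.snd g.left (u j) ≫ u j ≫ P.hom = pullback.fst g.left (u j) ≫ T.hom by
        rw [← pullback.condition_assoc, Over.w g])
    have hab : φ W (PicF.pullCl (PicF.XTmap f a) (PicF.cl L)) = φ W (PicF.pullCl (PicF.XTmap f b) (c j)) := by
      rw [hP.natural _ _ a _ ⟨L, rfl, hL⟩, hP.natural _ _ b _ (hc j), hcφ, Category.comp_id]
      ext1
      exact pullback.condition
    obtain ⟨R₁, hR₁, hR₁'⟩ := hP.locallyInjective W _ _ (PicDesc21.isInvertibleCl_pull _ ⟨L, rfl, hL⟩)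
      (PicDesc21.isInvertibleCl_pull _ (hc j)) hab
    obtain ⟨κ, V, v, hv, hvR⟩ := RigDesc22.exists_family hR₁
    obtain ⟨k, y, hy⟩ := (mem_fppf_iff.1 hv).1 w
    have h1 := congrArg (degCl f _ y) (hR₁' (v k) (hvR k))
    rw [degCl_pull f (AbDual.ovrHom W (v k)) y (PicDesc21.isInvertibleCl_pull _ ⟨L, rfl, hL⟩),
      degCl_pull f (AbDual.ovrHom W (v k)) y (PicDesc21.isInvertibleCl_pull _ (hc j)),
      degCl_pull f a _ ⟨L, rfl, hL⟩, degCl_pull f b _ (hc j), degCl_cl] at h1
    rw [show (AbDual.ovrHom W (v k)).left y = w from hy] at h1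
    rw [show a.left w = t from hw1, show b.left w = x (g.left t) from hw2] at h1
    exact h1.symm
  refine ⟨d, IsLocallyConstant.iff_exists_open _ |>.2 fun p => ?_, hmain⟩
  obtain ⟨L, hL, hLi⟩ := hc (i p)
  have hp : ∀ z, d (u (i p) z) = degMod f _ z L := fun z => by
    rw [← hmain _ L hLi z, hL, hcφ, Category.comp_id]
    rfl
  obtain ⟨O, hO, hxO, hconst⟩ := (IsLocallyConstant.iff_exists_open _).1
    (isLocallyConstant_degMod f hd (AbDual.ovr P (u (i p))) hLi) (x p)
  haveI : Flat (u (i p)) := (hflat (i p)).1
  haveI : LocallyOfFinitePresentation (u (i p)) := (hflat (i p)).2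
  refine ⟨u (i p) '' O, (u (i p)).isOpenMap _ hO, ⟨x p, hxO, hx p⟩, ?_⟩
  rintro _ ⟨z, hz, rfl⟩
  have h0 := hp (x p)
  rw [hx p] at h0
  rw [hp, h0]
  exact hconst z hz

end Groth.Agent.PicTan20
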