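import Groth.Agent.Lib.PicTan20.PicZeroDim

/-!
# Base change of a scheme representing `Pic⁰`
-/

set_option autoImplicit false
set_option backward.isDefEq.respectTransparency false
set_option backward.isDefEq.respectTransparency.types false

universe u

open CategoryTheory CategoryTheory.Limits AlgebraicGeometry

noncomputable section

namespace Groth.Agent.PicTan20

attribute [local instance] M2.law

/-- A representation of the fppf sheafified Picard functor base changes, for `Pic⁰`. -/
theorem isRelPicZeroK_baseChange {X S S' : Scheme.{u}} (f : X ⟶ S) (g : S' ⟶ S)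
    (P : Over S) (φ : ∀ T : Over S, PicF.Cl (PicF.XT f T) → (T ⟶ P))
    (hP : AbDual.IsRelPicZeroK Scheme.fppfPrecoverage f P φ) :
    AbDual.IsRelPicZeroK Scheme.fppfPrecoverage (pullback.snd f g) (Over.mk (pullback.snd P.hom g))
      (fun T c => Over.homMk
        (pullback.lift (φ (Over.mk (T.hom ≫ g)) (PicF.pullCl (pullbackLeftPullbackSndIso f g T.hom).inv c)).left T.hom
          (Over.w (φ (Over.mk (T.hom ≫ g)) (PicF.pullCl (pullbackLeftPullbackSndIso f g T.hom).inv c))))
        (pullback.lift_snd _ _ _)) := by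
  have down : ∀ {T : Over S'} {c : PicF.Cl (PicF.XT (pullback.snd f g) T)},
      AbDual.IsPicZeroCl (pullback.snd f g) T c → AbDual.IsPicZeroCl f (Over.mk (T.hom ≫ g))
        (PicF.pullCl (pullbackLeftPullbackSndIso f g T.hom).inv c) := fun {T c} hc =>
    AbDual21.picZero_pull hc _ (𝟙 T.left)
      ((pullbackLeftPullbackSndIso_inv_snd_snd f g T.hom).trans (Category.comp_id _).symm)
  have up : ∀ {T : Over S'} {c : PicF.Cl (PicF.XT f (Over.mk (T.hom ≫ g)))},
      AbDual.IsPicZeroCl f (Over.mk (T.hom ≫ g)) c → AbDual.IsPicZeroCl (pullback.snd f g) T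
        (PicF.pullCl (pullbackLeftPullbackSndIso f g T.hom).hom c) := fun {T c} hc =>
    AbDual21.picZero_pull hc _ (𝟙 T.left)
      ((pullbackLeftPullbackSndIso_hom_snd f g T.hom).trans (Category.comp_id _).symm)
  obtain ⟨hn, hs, hi⟩ := hP
  constructor
  · intro T1 T2 h c hc
    let h' : Over.mk (T2.hom ≫ g) ⟶ Over.mk (T1.hom ≫ g) := Over.homMk h.left (by simp [reassoc_of% (Over.w h)])
    have key : (pullbackLeftPullbackSndIso f g T2.hom).inv ≫ PicF.XTmap (pullback.snd f g) h =
        PicF.XTmap f h' ≫ (pullbackLeftPullbackSndIso f g T1.hom).inv := by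
      rw [Iso.inv_comp_eq, ← Category.assoc, Iso.eq_comp_inv]
      apply pullback.hom_ext <;> simp [PicF.XTmap, h']
    have e : φ (Over.mk (T2.hom ≫ g)) (PicF.pullCl (pullbackLeftPullbackSndIso f g T2.hom).inv
        (PicF.pullCl (PicF.XTmap (pullback.snd f g) h) c)) = h' ≫ φ (Over.mk (T1.hom ≫ g))
        (PicF.pullCl (pullbackLeftPullbackSndIso f g T1.hom).inv c) := by
      rw [PicSm20.pull_pull, key, ← PicSm20.pull_pull]
      exact hn _ _ h' _ (down hc)
    ext1
    apply pullback.hom_ext
    · simp [e, h']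
    · simp
  · intro T h
    have hw : h.left ≫ pullback.snd P.hom g = T.hom := Over.w h
    let h' : Over.mk (T.hom ≫ g) ⟶ P := Over.homMk (h.left ≫ pullback.fst P.hom g)
      (by rw [Category.assoc, pullback.condition, ← Category.assoc, hw]; rfl)
    obtain ⟨R, hR, hc⟩ := hs _ h'
    refine ⟨R, hR, fun U v hv => ?_⟩
    obtain ⟨c, hc1, hc2⟩ := hc v hv
    let j : Over.mk ((AbDual.ovr T v).hom ≫ g) ⟶ AbDual.ovr (Over.mk (T.hom ≫ g)) v :=
      Over.homMk (𝟙 U) (by simp)
    refine ⟨PicF.pullCl (pullbackLeftPullbackSndIso f g (AbDual.ovr T v).hom).hom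
      (PicF.pullCl (PicF.XTmap f j) c), up ((RigDesc22.good_picZero f).pull j hc1), ?_⟩
    ext1
    apply pullback.hom_ext
    · simp only [Over.homMk_left, pullback.lift_fst, Over.comp_left]
      rw [PicSm20.pull_pull, Iso.inv_hom_id]
      erw [PicLoc.pullCl_id, hn _ _ j c hc1, hc2]
      simp [j, h']
    · simp only [Over.homMk_left, pullback.lift_snd, Over.comp_left, Category.assoc]
      simp [hw]
  · intro T c c' hc hc' h
    have h1 : φ (Over.mk (T.hom ≫ g)) (PicF.pullCl (pullbackLeftPullbackSndIso f g T.hom).inv c) =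
        φ (Over.mk (T.hom ≫ g)) (PicF.pullCl (pullbackLeftPullbackSndIso f g T.hom).inv c') := by
      ext1
      have := congrArg (fun z => z.left ≫ pullback.fst P.hom g) h
      simpa using this
    obtain ⟨R, hR, hR'⟩ := hi _ _ _ (down hc) (down hc') h1
    refine ⟨R, hR, fun U v hv => ?_⟩
    let j : Over.mk ((AbDual.ovr T v).hom ≫ g) ⟶ AbDual.ovr (Over.mk (T.hom ≫ g)) v :=
      Over.homMk (𝟙 U) (by simp)
    have key : PicF.XTmap f j ≫ PicF.XTmap f (AbDual.ovrHom (Over.mk (T.hom ≫ g)) v) ≫
        (pullbackLeftPullbackSndIso f g T.hom).inv =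
        (pullbackLeftPullbackSndIso f g (AbDual.ovr T v).hom).inv ≫
          PicF.XTmap (pullback.snd f g) (AbDual.ovrHom T v) := by
      rw [eq_comm, Iso.inv_comp_eq, ← Category.assoc, ← Category.assoc, Iso.eq_comp_inv]
      apply pullback.hom_ext <;> simp [PicF.XTmap, j]
    have := congrArg (fun z => PicF.pullCl (pullbackLeftPullbackSndIso f g (AbDual.ovr T v).hom).hom
      (PicF.pullCl (PicF.XTmap f j) z)) (hR' v hv)
    simp only [PicSm20.pull_pull, key, Iso.hom_inv_id_assoc] at this
    exact this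

end Groth.Agent.PicTan20
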