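import Groth.Agent.Lib.PicTan20.PicZeroDeg
import Groth.Agent.Lib.AbDual21.Phi
import Groth.Agent.Lib.RigDesc22.RelPic

/-!
# Powers of a curve map onto `Pic⁰`
-/

set_option autoImplicit false
set_option linter.style.haveILetI false
set_option linter.unusedSectionVars false
set_option maxHeartbeats 1000000
set_option backward.isDefEq.respectTransparency false
set_option backward.isDefEq.respectTransparency.types false

universe u

open CategoryTheory CategoryTheory.Limits AlgebraicGeometry

noncomputable section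

namespace Groth.Agent.PicTan20

open Groth.Agent.Abel10 Groth.Agent.CurveCoh17

noncomputable local instance instLawPicZeroCover (Y : Scheme.{u}) : PicGrp.Law Y := M2.law Y

variable {C S : Scheme.{u}} (f : C ⟶ S)

/-- The fibre powers of a family. -/
def powOver : ℕ → Over S
  | 0 => Over.mk (𝟙 S)
  | n + 1 => Over.mk (PicF.XTproj f (powOver n) ≫ (powOver n).hom)

/-- The last projection of a fibre power. -/
def powLast (n : ℕ) : powOver f (n + 1) ⟶ Over.mk f :=
  Over.homMk (pullback.fst f (powOver f n).hom) pullback.condition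

/-- The projection forgetting the last factor. -/
def powInit (n : ℕ) : powOver f (n + 1) ⟶ powOver f n := Over.homMk (PicF.XTproj f (powOver f n)) rfl

variable [IsProper f] [Smooth f] [GeometricallyConnected f]

theorem powOver_props : ∀ n, IsProper (powOver f n).hom ∧ Smooth (powOver f n).hom ∧
    GeometricallyConnected (powOver f n).hom
  | 0 => ⟨inferInstanceAs (IsProper (𝟙 S)), inferInstanceAs (Smooth (𝟙 S)), ⟨by
      refine geometrically_iff_of_isClosedUnderIsomorphisms.mpr fun K _ x => ?_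
      haveI : ConnectedSpace ↥(Spec (CommRingCat.of K)) := inferInstanceAs (ConnectedSpace (PrimeSpectrum K))
      exact (Scheme.Hom.homeomorph (pullback.snd (𝟙 S) x)).connectedSpace_iff.2 inferInstance⟩⟩
  | n + 1 => by
    obtain ⟨h1, h2, h3⟩ := powOver_props n
    haveI := h1; haveI := h2; haveI := h3
    refine ⟨inferInstanceAs (IsProper (pullback.snd f (powOver f n).hom ≫ _)),
      inferInstanceAs (Smooth (pullback.snd f (powOver f n).hom ≫ _)), ?_⟩
    exact GeometricallyConnected.comp (pullback.snd f (powOver f n).hom) (powOver f n).hom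

variable (hdim : ∀ s : S, topologicalKrullDim ↥(f.fiber s) = 1)
  {LΔ : (pullback f f).Modules} (hLΔ : PicF.IsInvertible LΔ) {σΔ : Γ(LΔ, (⊤ : (pullback f f).Opens))}
  (hσΔ : LocEq LΔ (pullback.diagonal f).ker σΔ) (e : S ⟶ C) (he : e ≫ f = 𝟙 S)
  (hI : PicF.IsInvertible (ClSub.idealMod e.ker))

/-- The universal product of the classes `O(x_i - e)`. -/
def powCls : ∀ n, PicLoc.PicSet (PicF.XT f (powOver f n))
  | 0 => 1
  | n + 1 => pc (PicF.XTmap f (powInit f n)) (powCls n) * pc (PicF.XTmap f (powLast f n)) (abelCls f hLΔ e hI)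

include hdim hσΔ he in
theorem isPicZeroCl_powCls : ∀ n, AbDual.IsPicZeroCl f (powOver f n) (powCls f hLΔ e hI n).1
  | 0 => by
    show AbDual.IsPicZeroCl f _ ((1 : PicLoc.PicSet _)).1
    rw [PicGrp.one_val]
    exact AbDual21.picZero_one _
  | n + 1 => by
    refine isPicZeroCl_mul f hdim ?_ ?_
    · exact (RigDesc22.good_picZero f).pull (powInit f n) (isPicZeroCl_powCls n)
    · exact (RigDesc22.good_picZero f).pull (powLast f n) (isPicZeroCl_abelCls f hdim hLΔ hσΔ e he hI)

section Geometric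

variable {Ω : Type u} [Field Ω] (τ : Spec (CommRingCat.of Ω) ⟶ S)

local instance geomFibreOver : (pullback f τ).Over (Spec (CommRingCat.of Ω)) := ⟨pullback.snd f τ⟩

local instance geomFibreProper : IsProper (pullback f τ ↘ Spec (CommRingCat.of Ω)) :=
  inferInstanceAs (IsProper (pullback.snd f τ))

local instance geomFibreSmooth : Smooth (pullback f τ ↘ Spec (CommRingCat.of Ω)) :=
  inferInstanceAs (Smooth (pullback.snd f τ))

theorem geomFibre_sq : IsPullback (pullback.fst f τ) (pullback f τ ↘ Spec (CommRingCat.of Ω)) f τ :=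
  IsPullback.of_hasPullback f τ

variable [IsIntegral (pullback f τ)] (hd : topologicalKrullDim ↥(pullback f τ) = 1)

include hσΔ in
theorem pc_toSq_diag (x : Spec (CommRingCat.of Ω) ⟶ C) (hx : x ≫ f = τ) :
    pc (toSq f τ x hx) (PicGrp.cls LΔ hLΔ) * ptCls hd (graph f τ x hx) (graph_snd f τ x hx) = 1 := by
  haveI : IsClosedImmersion (graph f τ x hx) := by
    haveI : IsClosedImmersion (graph f τ x hx ≫ (pullback f τ ↘ Spec (CommRingCat.of Ω))) := by
      rw [show graph f τ x hx ≫ (pullback f τ ↘ Spec (CommRingCat.of Ω)) = 𝟙 _ from graph_snd f τ x hx]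
      infer_instance
    exact IsClosedImmersion.of_comp _ (pullback f τ ↘ Spec (CommRingCat.of Ω))
  rw [pc, PicGrp.pullHom_cls, ptCls, PicGrp.cls_mul_cls_eq_one_iff]
  exact nonempty_iso_of_locEq (isEffCartierIdeal_point hd _ (graph_snd f τ x hx))
    (PicLoc.isInvertible_pullback _ hLΔ) (hσΔ.pullback (isPullback_graph f τ x hx))

include hdim hσΔ he in
theorem pc_toSq_abel (x : Spec (CommRingCat.of Ω) ⟶ C) (hx : x ≫ f = τ) :
    pc (toSq f τ x hx) (abelCls f hLΔ e hI) =
      (ptCls hd (graph f τ x hx) (graph_snd f τ x hx))⁻¹ * ptCls hd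
        (graph f τ (τ ≫ e) (by rw [Category.assoc, he, Category.comp_id]))
        (graph_snd f τ (τ ≫ e) (by rw [Category.assoc, he, Category.comp_id])) := by
  have hxe : (τ ≫ e) ≫ f = τ := by rw [Category.assoc, he, Category.comp_id]
  obtain ⟨-, hI', hone⟩ := secIdeal f hdim hLΔ hσΔ e he
  have h1 := congrArg (pc (pullback.fst f τ)) hone
  rw [map_mul, map_one, show PicGrp.cls ((Scheme.Modules.pullback (secSq f e he)).obj LΔ)
      (PicLoc.isInvertible_pullback _ hLΔ) = pc (secSq f e he) (PicGrp.cls LΔ hLΔ) from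
      (PicGrp.pullHom_cls _ _ _ _).symm,
    pc_comp _ _ (show pullback.fst f τ ≫ secSq f e he = toSq f τ (τ ≫ e) hxe by
      apply pullback.hom_ext
      · simp [secSq, toSq]
      · simp [secSq, toSq, pullback.condition_assoc])] at h1
  rw [pc_toSq_abelCls f hLΔ e he hI]
  congr 1
  · exact eq_inv_of_mul_eq_one_left (pc_toSq_diag f hLΔ hσΔ τ hd x hx)
  · exact mul_left_cancel (h1.trans (pc_toSq_diag f hLΔ hσΔ τ hd (τ ≫ e) hxe).symm)

variable [IsAlgClosed Ω]

include hdim hσΔ he in
/-- Effective classes are reached by the fibre powers. -/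
theorem exists_pow_point : ∀ (n : ℕ) (M : (pullback f τ).Modules) (hM : PicF.IsInvertible M),
    Curv2.deg Ω (pullback f τ) M 1 = n → Nontrivial (Coh.HH (pullback f τ) M 0) →
    ∃ y : Over.mk τ ⟶ powOver f n, pc (PicF.XTmap f y) (powCls f hLΔ e hI n) =
      PicGrp.cls M hM * ptCls hd (graph f τ (τ ≫ e) (by rw [Category.assoc, he, Category.comp_id]))
        (graph_snd f τ (τ ≫ e) (by rw [Category.assoc, he, Category.comp_id])) ^ n := by
  have hX := CurveAmple18.curveLike Ω (pullback f τ) hd.le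
  haveI := hX.noetherian
  intro n
  induction n with
  | zero =>
    intro M hM hdeg hs
    obtain ⟨i⟩ := (hX.deg_nonneg (rkOne_of_invertible hd.le hM) hs).2 (by simpa using hdeg)
    refine ⟨Over.homMk τ (Category.comp_id _), ?_⟩
    rw [pow_zero, mul_one, (PicGrp.cls_eq_one_iff hM).2 ⟨i⟩]
    exact map_one _
  | succ n ih =>
    intro M hM hdeg hs
    obtain ⟨w, hw⟩ := exists_ne (0 : Coh.HH (pullback f τ) M 0)
    obtain ⟨x, hx, hnt⟩ := exists_zero hd hM (by rw [hdeg]; push_cast; omega) w hw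
    let xC := x ≫ pullback.fst f τ
    have hxC : xC ≫ f = τ := by
      show (x ≫ pullback.fst f τ) ≫ f = τ
      rw [Category.assoc, pullback.condition, ← Category.assoc]
      rw [show x ≫ pullback.snd f τ = 𝟙 _ from hx, Category.id_comp]
    have hgr : graph f τ xC hxC = x := by
      apply pullback.hom_ext
      · exact pullback.lift_fst _ _ _
      · exact (pullback.lift_snd _ _ _).trans hx.symm
    have hI' := isInvertible_point hd x hx
    have hd' : Curv2.deg Ω (pullback f τ) (CohB1.tensorMod M (ClSub.idealMod x.ker)) 1 = n := by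
      rw [hX.deg_tensor_invertible hM hI', hdeg, deg_point hd x hx]
      push_cast
      ring
    obtain ⟨y', hy'⟩ := ih _ (M2.isInvertible_tensor hM hI') hd' hnt
    let y : Over.mk τ ⟶ powOver f (n + 1) := Over.homMk (pullback.lift xC y'.left (hxC.trans (Over.w y').symm))
      (show pullback.lift xC y'.left (hxC.trans (Over.w y').symm) ≫ pullback.snd f _ ≫ (powOver f n).hom = τ by
        rw [pullback.lift_snd_assoc]
        exact Over.w y')
    refine ⟨y, ?_⟩
    have e1 : y ≫ powInit f n = y' := Over.OverMorphism.ext (pullback.lift_snd _ _ _)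
    have e2 : PicF.XTmap f y ≫ PicF.XTmap f (powLast f n) = toSq f τ xC hxC := by
      apply pullback.hom_ext
      · simp [PicF.XTmap, toSq]
      · simp [PicF.XTmap, toSq, powLast, y]
    show pc (PicF.XTmap f y) (pc (PicF.XTmap f (powInit f n)) (powCls f hLΔ e hI n) *
      pc (PicF.XTmap f (powLast f n)) (abelCls f hLΔ e hI)) = _
    rw [map_mul, pc_comp _ _ (RigDesc22.XTmap_comp f y (powInit f n)), e1, hy', pc_comp _ _ e2]
    erw [pc_toSq_abel f hdim hLΔ hσΔ e he hI τ hd xC hxC]
    rw [← AlgEquiv22.cls_tensor hM hI']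
    simp only [hgr]
    set a := ptCls hd x hx with ha
    rw [show PicGrp.cls (ClSub.idealMod x.ker) hI' = a from rfl, pow_succ]
    set b := ptCls hd (graph f τ (τ ≫ e) (by rw [Category.assoc, he, Category.comp_id]))
      (graph_snd f τ (τ ≫ e) (by rw [Category.assoc, he, Category.comp_id])) with hb
    calc _ = PicGrp.cls M hM * (a * a⁻¹) * (b ^ n * b) := by ac_rfl
      _ = _ := by rw [mul_inv_cancel, mul_one]

include hdim hσΔ he hd in
/-- Classes of degree zero are reached by the fibre powers. -/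
theorem exists_pow_point_of_deg_zero {n : ℕ} (hn : Curv2.genus Ω (pullback f τ) + 1 ≤ n)
    {L : (pullback f τ).Modules} (hL : PicF.IsInvertible L) (hdeg : Curv2.deg Ω (pullback f τ) L 1 = 0) :
    ∃ y : Over.mk τ ⟶ powOver f n, pc (PicF.XTmap f y) (powCls f hLΔ e hI n) = PicGrp.cls L hL := by
  have hX := CurveAmple18.curveLike Ω (pullback f τ) hd.le
  haveI := hX.noetherian
  have hxe : (τ ≫ e) ≫ f = τ := by rw [Category.assoc, he, Category.comp_id]
  let y₀ := graph f τ (τ ≫ e) hxe
  have hy : y₀ ≫ (pullback f τ ↘ Spec (CommRingCat.of Ω)) = 𝟙 _ := graph_snd f τ (τ ≫ e) hxe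
  obtain ⟨J, hJ, ⟨eJ⟩⟩ := M2.exists_inverse (isInvertible_point hd y₀ hy)
  have hdJ : Curv2.deg Ω (pullback f τ) J 1 = 1 := by
    rw [hX.deg_of_tensor_iso (isInvertible_point hd y₀ hy) hJ eJ, deg_point hd y₀ hy]
    norm_num
  have hpow := M2.isInvertible_tensorPow hJ n
  have hM := M2.isInvertible_tensor hL hpow
  have hdM : Curv2.deg Ω (pullback f τ) (CohB1.tensorMod L (CohB1.tensorPow J n)) 1 = n := by
    rw [hX.deg_tensor_invertible hL hpow, hdeg, hX.deg_tensorPow hJ n, hdJ]
    push_cast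
    ring
  have hR := rkOne_of_invertible hd.le hM
  haveI := hX.fin _ hR.coh 0
  have hnt : Nontrivial (Coh.HH (pullback f τ) (CohB1.tensorMod L (CohB1.tensorPow J n)) 0) := by
    refine Module.finrank_pos_iff.1 (?_ : 0 < Module.finrank Ω _)
    have hrr := hX.rr hR.coh
    rw [hdM] at hrr
    have := Nat.zero_le (Module.finrank Ω (Coh.HH (pullback f τ) (Coh.structureModule (pullback f τ)) 0))
    omega
  obtain ⟨y, hy'⟩ := exists_pow_point f hdim hLΔ hσΔ e he hI τ hd n _ hM hdM hnt
  refine ⟨y, hy'.trans ?_⟩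
  rw [← AlgEquiv22.cls_tensor hL hpow,
    show PicGrp.cls (CohB1.tensorPow J n) hpow = PicGrp.cls J hJ ^ n from Subtype.ext (PicGrp.cls_pow_val hJ n).symm,
    mul_assoc, ← mul_pow, mul_comm (PicGrp.cls J hJ),
    show ptCls hd y₀ hy * PicGrp.cls J hJ = 1 from (PicGrp.cls_mul_cls_eq_one_iff _ _).2 ⟨eJ⟩, one_pow, mul_one]

end Geometric

variable {P₀ : Over S} {φ₀ : ∀ T : Over S, PicF.Cl (PicF.XT f T) → (T ⟶ P₀)}
  (hP₀ : AbDual.IsRelPicZeroK Scheme.fppfPrecoverage f P₀ φ₀)

include hdim hσΔ he hP₀ in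
/-- The fibre powers surject onto `Pic⁰` above the points of small genus. -/
theorem mem_range_powCls {n : ℕ} (p : P₀.left)
    (hn : CohIII.fiberRank f (Coh.structureModule C) 1 (P₀.hom p) + 1 ≤ n) :
    p ∈ Set.range (φ₀ (powOver f n) (powCls f hLΔ e hI n).1).left := by
  let κ := P₀.left.residueField p
  let Ω := AlgebraicClosure κ
  let q : Spec (CommRingCat.of Ω) ⟶ P₀.left :=
    Spec.map (CommRingCat.ofHom (algebraMap κ Ω)) ≫ P₀.left.fromSpecResidueField p
  let τ := q ≫ P₀.hom
  have hq : q (IsLocalRing.closedPoint Ω) = p := by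
    rw [show q (IsLocalRing.closedPoint Ω) = (P₀.left.fromSpecResidueField p)
      ((Spec.map (CommRingCat.ofHom (algebraMap κ Ω))) (IsLocalRing.closedPoint Ω)) from Scheme.Hom.comp_apply _ _ _]
    exact Scheme.fromSpecResidueField_apply p _
  letI : (pullback f τ).Over (Spec (CommRingCat.of Ω)) := ⟨pullback.snd f τ⟩
  have h : IsPullback (pullback.fst f τ) (pullback f τ ↘ Spec (CommRingCat.of Ω)) f τ := IsPullback.of_hasPullback f τ
  haveI := isIntegral_fieldPt h
  have hd := topologicalKrullDim_fieldPt h hdim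
  have hg := genus_fieldPt h
  rw [show τ (IsLocalRing.closedPoint Ω) = P₀.hom p from (Scheme.Hom.comp_apply _ _ _).trans (congrArg P₀.hom hq)] at hg
  let T : Over S := Over.mk τ
  let q' : T ⟶ P₀ := Over.homMk q rfl
  obtain ⟨c, hc, -, hcφ⟩ := RigDesc22.exists_rig f e he (RigDesc22.good_picZero f) hP₀.natural hP₀.locallySurjective
    hP₀.locallyInjective (fun T τ => by
      haveI : IsProper (Over.mk f).hom := ‹_›
      haveI : Smooth (Over.mk f).hom := ‹_›
      haveI : GeometricallyConnected (Over.mk f).hom := ‹_›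
      exact AbDual21.bijective_appTop_snd (Over.mk f) T τ) T q'
  obtain ⟨L, rfl, hL, halg⟩ := hc
  have hzero : degAt f (T := T) (𝟙 _) L = 0 := by
    rw [degAt_eq f hdim (T := T) _ hL, ← degCl_cl]
    exact (isPicZeroCl_iff_degCl f hdim ⟨L, rfl, hL⟩).1 ⟨L, rfl, hL, halg⟩ _
  have hdeg : Curv2.deg Ω (pullback f τ) L 1 = 0 := by
    letI : (PicF.XT f T).Over (Spec (CommRingCat.of Ω)) := ⟨pullback.snd f τ⟩
    letI : (pullback (PicF.XTproj f T) (𝟙 (Spec (CommRingCat.of Ω)))).Over (Spec (CommRingCat.of Ω)) :=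
      ⟨pullback.snd (PicF.XTproj f T) (𝟙 (Spec (CommRingCat.of Ω)))⟩
    have h' : IsPullback (𝟙 (pullback f τ)) (pullback f τ ↘ Spec (CommRingCat.of Ω)) (PicF.XTproj f T) (𝟙 _) :=
      IsPullback.of_horiz_isIso ⟨by rw [Category.id_comp]; exact (Category.comp_id _).symm⟩
    haveI : IsProper (PicF.XTproj f T) := inferInstanceAs (IsProper (pullback.snd f τ))
    haveI : Smooth (PicF.XTproj f T) := inferInstanceAs (Smooth (pullback.snd f τ))
    haveI : GeometricallyConnected (PicF.XTproj f T) := inferInstanceAs (GeometricallyConnected (pullback.snd f τ))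
    have e1 := deg_fieldPt (f := PicF.XTproj f T) h' hL
    rw [CurveCoh17.deg_iso ((Scheme.Modules.pullbackId (pullback f τ)).app L)] at e1
    rw [degAt, deg_fieldPt (f := PicF.XTproj f T) (τ := 𝟙 (Spec (CommRingCat.of Ω))) (IsPullback.of_hasPullback (PicF.XTproj f T) (𝟙 (Spec (CommRingCat.of Ω)))) hL, ← e1] at hzero
    exact hzero
  obtain ⟨y, hy⟩ := exists_pow_point_of_deg_zero f hdim hLΔ hσΔ e he hI τ hd (n := n) (hg ▸ hn) hL hdeg
  have e2 : y ≫ φ₀ _ (powCls f hLΔ e hI n).1 = q' := by
    rw [← hP₀.natural _ _ y _ (isPicZeroCl_powCls f hdim hLΔ hσΔ e he hI n), ← hcφ]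
    exact congrArg (φ₀ T) (congrArg Subtype.val hy)
  exact ⟨y.left (IsLocalRing.closedPoint Ω), ((Scheme.Hom.comp_apply _ _ _).symm.trans
    (congrArg (fun r : T ⟶ P₀ => r.left (IsLocalRing.closedPoint Ω)) e2)).trans hq⟩

end Groth.Agent.PicTan20
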