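import Groth.Agent.Lib.PicTan20.PicZeroOpen
import Groth.Agent.Lib.PicTan20.PicZeroCover
import Groth.Agent.Lib.PicTan20.PicZeroBC
import Groth.Agent.Lib.PicSm20.CurveSmooth
import Groth.Agent.Lib.PicSep22.Smooth
import Groth.Agent.Lib.DGen9.FibEuler
import Groth.Agent.Lib.FpqcDesc.Basic

/-!
# The Jacobian of a family of curves is proper, smooth, with geometrically connected fibres
-/

set_option autoImplicit false
set_option linter.style.haveILetI false
set_option linter.unusedSectionVars false
set_option maxHeartbeats 1000000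
set_option backward.isDefEq.respectTransparency false
set_option backward.isDefEq.respectTransparency.types false

universe u

open CategoryTheory CategoryTheory.Limits AlgebraicGeometry

noncomputable section

namespace Groth.Agent.PicTan20

noncomputable local instance instLawPicZeroProper (Y : Scheme.{u}) : PicGrp.Law Y := M2.law Y

variable {C S : Scheme.{u}} (f : C ⟶ S) [IsProper f] [Smooth f] [GeometricallyConnected f]
  (hdim : ∀ s : S, topologicalKrullDim ↥(f.fiber s) = 1)

include hdim in
/-- With a section and bounded genus, a fibre power maps onto `Pic⁰`. -/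
theorem exists_surjective_powOver (e : S ⟶ C) (he : e ≫ f = 𝟙 S) {n : ℕ}
    (hn : ∀ s : S, CohIII.fiberRank f (Coh.structureModule C) 1 s + 1 ≤ n)
    {P₀ : Over S} {φ₀ : ∀ T : Over S, PicF.Cl (PicF.XT f T) → (T ⟶ P₀)}
    (hP₀ : AbDual.IsRelPicZeroK Scheme.fppfPrecoverage f P₀ φ₀) :
    ∃ (Y : Over S) (ψ : Y ⟶ P₀), IsProper Y.hom ∧ GeometricallyConnected Y.hom ∧ UniversallyOpen Y.hom ∧
      Surjective ψ.left := by
  obtain ⟨L, hL, σ, hσ⟩ := exists_diag f hdim
  obtain ⟨-, hI, -⟩ := Abel10.secIdeal f hdim hL hσ e he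
  obtain ⟨h1, h2, h3⟩ := powOver_props f n
  haveI := h2
  exact ⟨powOver f n, φ₀ _ (powCls f hL e hI n).1, h1, h3, inferInstance,
    ⟨fun p => mem_range_powCls f hdim hL hσ e he hI hP₀ p (hn _)⟩⟩

theorem fiberRank_eq_genus (s : S) :
    letI : (f.fiber s).Over (Spec (CommRingCat.of (S.residueField s))) := ⟨f.fiberToSpecResidueField s⟩
    Curv2.genus (S.residueField s) (f.fiber s) = CohIII.fiberRank f (Coh.structureModule C) 1 s := by
  letI : (f.fiber s).Over (Spec (CommRingCat.of (S.residueField s))) := ⟨f.fiberToSpecResidueField s⟩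
  refine (Abel10.genus_fieldPt (f := f) (IsPullback.of_hasPullback f (S.fromSpecResidueField s) :
    IsPullback (f.fiberι s) (f.fiber s ↘ Spec (CommRingCat.of (S.residueField s))) f (S.fromSpecResidueField s))).trans ?_
  exact congrArg (CohIII.fiberRank f _ 1) (Scheme.fromSpecResidueField_apply s _)

theorem fiberRank_pullback {T : Scheme.{u}} (t : T ⟶ S) (y : T) :
    CohIII.fiberRank (pullback.snd f t) (Coh.structureModule (pullback f t)) 1 y =
      CohIII.fiberRank f (Coh.structureModule C) 1 (t y) := by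
  haveI : IsProper (pullback.snd f t) := inferInstance
  haveI : Smooth (pullback.snd f t) := inferInstance
  exact (fiberRank_eq_genus (pullback.snd f t) y).symm.trans (Abel10.genus_fiber_snd f t y)

variable {P P₀ : Over S} {φ : ∀ T : Over S, PicF.Cl (PicF.XT f T) → (T ⟶ P)}
  (hP : AbDual.IsRelPicK Scheme.fppfPrecoverage f P φ) [LocallyOfFinitePresentation P.hom]
  {φ₀ : ∀ T : Over S, PicF.Cl (PicF.XT f T) → (T ⟶ P₀)}
  (hP₀ : AbDual.IsRelPicZeroK Scheme.fppfPrecoverage f P₀ φ₀) {j : P₀ ⟶ P}
  (hj : ∀ (T : Over S) (c : PicF.Cl (PicF.XT f T)), AbDual.IsPicZeroCl f T c → φ₀ T c ≫ j = φ T c)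

include hdim hP hP₀ hj in
theorem smooth_picZero : Smooth P₀.hom := by
  haveI := (isOpenImmersion_picZero f hP hP₀ hj hdim).1
  haveI : GeometricallyReduced f := AbRigid.geometricallyReduced_of_smooth f
  haveI := PicSm20.smooth_pic_curve f (fun _ => inferInstance) (fun s => (hdim s).le) hP
  rw [← Over.w j]
  infer_instance

include hdim hP hP₀ hj in
theorem isProper_picZero : IsProper P₀.hom := by
  obtain ⟨hjo, hjc⟩ := isOpenImmersion_picZero f hP hP₀ hj hdim
  haveI := hjo; haveI := hjc
  haveI := smooth_picZero f hdim hP hP₀ hj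
  haveI := PicSep22.isSeparated_of_smooth f hP
  haveI : IsSeparated P₀.hom := by rw [← Over.w j]; infer_instance
  haveI : GeometricallyReduced f := AbRigid.geometricallyReduced_of_smooth f
  obtain ⟨S', g, hg, hgs, h, hh⟩ := PicSm20.exists_etale_section_cover f (fun _ => inferInstance)
  haveI := hg
  haveI := hgs
  let W : ℕ → S.Opens := fun n => ⟨{s | CohIII.fiberRank f (Coh.structureModule C) 1 s < n},
    (FibEuler9.upperSemicontinuous_betti f (Coh.structureModule C) CurveR1_10.isFP_structure
      (CurveR1_10.isFlatOver_structure f) 1).isOpen_preimage n⟩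
  let U : ℕ → S'.Opens := fun n => g ⁻¹ᵁ W n
  let u : ∀ n : ULift.{u} ℕ, (U n.down : Scheme.{u}) ⟶ S := fun n => (U n.down).ι ≫ g
  have hR : Presieve.ofArrows (fun n : ULift.{u} ℕ => (U n.down : Scheme.{u})) u ∈ Scheme.fppfPrecoverage S := by
    refine PicDesc21.mem_fppf_iff.2 ⟨fun s => ?_, fun n => ⟨inferInstance, inferInstance⟩⟩
    obtain ⟨s', rfl⟩ := g.surjective s
    refine ⟨⟨CohIII.fiberRank f (Coh.structureModule C) 1 (g s') + 1⟩, ?_⟩
    exact ⟨⟨s', Nat.lt_succ_self _⟩, Scheme.Hom.comp_apply _ _ _⟩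
  haveI : MorphismProperty.DescendsAlong (@IsProper : MorphismProperty Scheme.{u})
      (@Surjective ⊓ @Flat ⊓ @QuasiCompact) := FpqcDesc.descendsAlong_isProper.{u}
  refine PicSep22.of_fppf_family @IsProper P₀.hom hR fun V v hv => ?_
  cases hv with
  | mk n =>
  let f' := pullback.snd f (u n)
  haveI : IsProper f' := inferInstanceAs (IsProper (pullback.snd f _))
  haveI : Smooth f' := inferInstanceAs (Smooth (pullback.snd f _))
  haveI : GeometricallyConnected f' := inferInstanceAs (GeometricallyConnected (pullback.snd f _))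
  let e : (U n.down : Scheme.{u}) ⟶ pullback f (u n) := pullback.lift ((U n.down).ι ≫ h) (𝟙 _)
    (by rw [Category.assoc, hh, Category.id_comp])
  obtain ⟨Y, ψ, hY, -, -, hψ⟩ := exists_surjective_powOver f' (Abel10.topologicalKrullDim_fiber_snd f (u n) hdim) e
    (pullback.lift_snd _ _ _) (n := n.down) (fun y => by
      rw [fiberRank_pullback f (u n) y, show u n y = g ((U n.down).ι y) from Scheme.Hom.comp_apply _ _ _]
      exact Nat.succ_le_of_lt y.2)
    (isRelPicZeroK_baseChange f (u n) P₀ φ₀ hP₀)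
  haveI := hψ
  haveI : UniversallyClosed (ψ.left ≫ pullback.snd P₀.hom (u n)) := by
    rw [show ψ.left ≫ pullback.snd P₀.hom (u n) = Y.hom from Over.w ψ]
    exact hY.toUniversallyClosed
  haveI : UniversallyClosed (pullback.snd P₀.hom (u n)) := .of_comp_surjective ψ.left _
  exact ⟨⟩

include hdim hP₀ in
theorem geometricallyConnected_picZero : GeometricallyConnected P₀.hom := by
  refine ⟨fun K _ σ Z fst snd hsq => ?_⟩
  let Ω := AlgebraicClosure K
  let a : Spec (CommRingCat.of Ω) ⟶ Spec (CommRingCat.of K) := Spec.map (CommRingCat.ofHom (algebraMap K Ω))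
  let τ := a ≫ σ
  let f' := pullback.snd f τ
  haveI : IsProper f' := inferInstanceAs (IsProper (pullback.snd f _))
  haveI : Smooth f' := inferInstanceAs (Smooth (pullback.snd f _))
  haveI : GeometricallyConnected f' := inferInstanceAs (GeometricallyConnected (pullback.snd f _))
  haveI : Nonempty ↥(pullback f τ) := ⟨(f'.surjective (IsLocalRing.closedPoint Ω)).choose⟩
  haveI : JacobsonSpace ↥(pullback f τ) := LocallyOfFiniteType.jacobsonSpace f'
  obtain ⟨z, -, hz⟩ := nonempty_inter_closedPoints (Z := (Set.univ : Set ↥(pullback f τ))) Set.univ_nonempty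
    isOpen_univ.isLocallyClosed
  obtain ⟨e, he⟩ := (pointEquivClosedPoint f').symm ⟨z, hz⟩
  let m := CohIII.fiberRank f' (Coh.structureModule (pullback f τ)) 1 (IsLocalRing.closedPoint Ω) + 1
  haveI : Subsingleton ↥(Spec (CommRingCat.of Ω)) := inferInstanceAs (Subsingleton (PrimeSpectrum Ω))
  obtain ⟨Y, ψ, -, hYc, hYo, hψ⟩ := exists_surjective_powOver f' (Abel10.topologicalKrullDim_fiber_snd f τ hdim) e he
    (n := m) (fun s => by rw [Subsingleton.elim s (IsLocalRing.closedPoint Ω)]) (isRelPicZeroK_baseChange f τ P₀ φ₀ hP₀)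
  haveI := hψ; haveI := hYc; haveI := hYo
  haveI : ConnectedSpace ↥(Spec (CommRingCat.of Ω)) := inferInstanceAs (ConnectedSpace (PrimeSpectrum Ω))
  haveI : ConnectedSpace Y.left := GeometricallyConnected.connectedSpace Y.hom Y.hom.isOpenMap
  haveI : ConnectedSpace ↥(pullback P₀.hom τ) := ψ.left.surjective.connectedSpace ψ.left.continuous
  let π : pullback P₀.hom τ ⟶ Z := hsq.lift (pullback.fst P₀.hom τ) (pullback.snd P₀.hom τ ≫ a)
    (by rw [Category.assoc]; exact pullback.condition)
  have hπ : IsPullback π (pullback.snd P₀.hom τ) snd a :=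
    IsPullback.of_right (by rw [hsq.lift_fst]; exact IsPullback.of_hasPullback _ _) (hsq.lift_snd _ _ _) hsq
  haveI : Surjective a := ⟨fun x => ⟨IsLocalRing.closedPoint Ω, Subsingleton.elim (α := PrimeSpectrum K) _ _⟩⟩
  haveI : Surjective π := MorphismProperty.of_isPullback (P := @Surjective) hπ.flip inferInstance
  exact π.surjective.connectedSpace π.continuous

end Groth.Agent.PicTan20
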