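import Groth.Agent.Lib.EtPic3.DualSeq
import Groth.Agent.Lib.NPow20.Pic

/-!
# First order classes `1 + t h` on infinitesimal extensions
-/

set_option autoImplicit false
set_option linter.style.haveILetI false
set_option backward.isDefEq.respectTransparency false

universe u

open CategoryTheory CategoryTheory.Limits AlgebraicGeometry TopologicalSpace Opposite TensorProduct

noncomputable section

namespace Groth.Agent.PicTan20

attribute [local instance] M2.law

section Natural

open PicH1_21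

variable {X Y Y' : Scheme.{u}} (r : Y ⟶ X) (q : Y' ⟶ Y)

/-- Pullback of units along `q`, over `X`. -/
def qSh : (CohTop.push r.base).obj (UnitsSh.unitsAb Y) ⟶ (CohTop.push (q ≫ r).base).obj (UnitsSh.unitsAb Y') :=
  (CohTop.push r.base).map (UnitsSh.comap q)

/-- Pullback of families along `q`, over `X`. -/
def qGod : (CohTop.push r.base).obj (godSh Y) ⟶ (CohTop.push (q ≫ r).base).obj (godSh Y') :=
  ⟨{ app := fun U => AddCommGrpCat.ofHom
      { toFun := fun g y => Additive.ofMul (Units.map (q.stalkMap y.1).hom.toMonoidHom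
          (Additive.toMul (g ⟨q y.1, y.2⟩)))
        map_zero' := funext fun y => congrArg Additive.ofMul (map_one _)
        map_add' := fun g h => funext fun y => congrArg Additive.ofMul (map_mul _ _ _) }
     naturality := fun _ _ _ => rfl }⟩

theorem qSh_comm : (CohTop.push r.base).map (unitsGod Y) ≫ qGod r q =
    qSh r q ≫ (CohTop.push (q ≫ r).base).map (unitsGod Y') := by
  apply Sheaf.hom_ext
  ext U s
  funext y
  refine congrArg Additive.ofMul (Units.ext ?_)
  exact Scheme.Hom.germ_stalkMap_apply q _ y.1 y.2 _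

/-- The map of the fundamental sequences. -/
def qScHom : PicH1_21.sc r ⟶ PicH1_21.sc (q ≫ r) where
  τ₁ := qSh r q
  τ₂ := qGod r q
  τ₃ := cokernel.map _ _ (qSh r q) (qGod r q) (qSh_comm r q)
  comm₁₂ := (qSh_comm r q).symm
  comm₂₃ := (cokernel.π_desc _ _ _).symm

theorem qScHom_π (D : X.Opens) (g : GSec r D) :
    (qScHom r q).τ₃.hom.app (op D) (π r D g) = π (q ≫ r) D ((qGod r q).hom.app (op D) g) :=
  (congr($((qScHom r q).comm₂₃).hom.app (op D) g)).symm

variable {r q}

theorem cl_pullback' (hG : Good r) (hG' : Good (q ≫ r)) {L : Y.Modules} (hL : PicF.IsInvertible L)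
    (hL' : PicF.IsInvertible ((Scheme.Modules.pullback q).obj L)) :
    CohFound.mp (qSh r q) 1 ⊤ (PicH1_21.cl hG L hL) = PicH1_21.cl hG' _ hL' := by
  obtain ⟨e, he⟩ := exists_isStGen hL
  obtain ⟨z, hz⟩ := exists_isRep hG hL he
  let e' : ∀ y : Y', (((Scheme.Modules.pullback q).obj L).presheaf.stalk y : Type u) := fun y =>
    M2.pullStalkEquiv q y L (1 ⊗ₜ e (q y))
  have he' : IsStGen _ e' := fun y => by
    convert (M2.pullStalkEquiv q y L).bijective.comp (bijective_smul_one_tmul (A := Y'.presheaf.stalk y) (he (q y)))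
      using 1
    funext c
    exact ((M2.pullStalkEquiv q y L).map_smul c _).symm
  have key : IsRep (q ≫ r) ((Scheme.Modules.pullback q).obj L) e' ((qScHom r q).τ₃.hom.app (op ⊤) z) := by
    choose D s hx hs using hG L hL
    refine isRep_of_cover (q ≫ r) he' _ fun x => ?_
    obtain ⟨g, hg⟩ := exists_rel r he (hs x)
    refine ⟨D x, M2.pullSec q L (U := r ⁻¹ᵁ D x) (s x), (qGod r q).hom.app (op (D x)) g, hx x,
      Twist.IsGen.pullback q (hs x), fun y => ?_, ?_⟩
    · refine Eq.trans (M2.pullStalkEquiv_tmul q y.1 L (U := r ⁻¹ᵁ D x) y.2 (s x)).symm ?_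
      refine Eq.trans ?_ ((M2.pullStalkEquiv q y.1 L).map_smul _ _)
      congr 1
      rw [show L.presheaf.germ (r ⁻¹ᵁ D x) (q y.1) y.2 (s x) = _ from hg ⟨q y.1, y.2⟩, TensorProduct.tmul_smul,
        TensorProduct.smul_tmul', TensorProduct.smul_tmul', Algebra.smul_def, mul_one, smul_eq_mul, mul_one]
      rfl
    · show (PicH1_21.sc (q ≫ r)).X₃.obj.map _ ((qScHom r q).τ₃.hom.app (op ⊤) z) = _
      rw [← NatTrans.naturality_apply (qScHom r q).τ₃.hom]
      rw [← qScHom_π, ← hz _ _ _ (hs x) hg]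
      rfl
  rw [cl_eq hG hL he hz, cl_eq hG' hL' he' key]
  show CohFound.mp (qScHom r q).τ₁ 1 ⊤ (CohFound.delta (sc_shortExact r) 0 ⊤ _) = _
  rw [CohFound.delta_natural (sc_shortExact r) (sc_shortExact (q ≫ r)) (qScHom r q)]
  show CohFound.delta (sc_shortExact (q ≫ r)) 0 ⊤ _ = CohFound.delta (sc_shortExact (q ≫ r)) 0 ⊤ _
  congr 1
  apply (CohFound.hc0 (PicH1_21.sc (q ≫ r)).X₃ ⊤).injective
  rw [CohFound.hc0_mp]
  exact (congrArg _ (AddEquiv.apply_symm_apply _ _)).trans (AddEquiv.apply_symm_apply _ _).symm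

/-- Functoriality of `picEquiv` over a fixed base. -/
theorem picEquiv_pl (hG : Good r) (hG' : Good (q ≫ r)) (a : PicLoc.PicSet Y) :
    picEquiv hG' (Additive.ofMul (NPow20.pl q a)) = CohFound.mp (qSh r q) 1 ⊤ (picEquiv hG (Additive.ofMul a)) := by
  obtain ⟨L, hL, rfl⟩ := PicGrp.exists_eq_cls a
  rw [show NPow20.pl q (PicGrp.cls L hL) = PicGrp.cls _ (PicLoc.isInvertible_pullback q hL) from Subtype.ext rfl,
    picEquiv_cls, picEquiv_cls, cl_pullback' hG hG' hL]

end Natural

section Nu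

variable {A : Type u} [CommRing A] {X Y : Scheme.{u}} (r : Y ⟶ X) (s : Y ⟶ Spec (CommRingCat.of A))

/-- A scalar of `A` as a function on `r ⁻¹ U`. -/
def scal (U : X.Opens) : A →+* Γ(Y, r ⁻¹ᵁ U) :=
  ((Y.presheaf.map (homOfLE (le_top : r ⁻¹ᵁ U ≤ ⊤)).op).hom.comp s.appTop.hom).comp
    (Scheme.ΓSpecIso (CommRingCat.of A)).inv.hom

theorem scal_res {U V : X.Opens} (h : V ≤ U) (a : A) :
    Y.presheaf.map (homOfLE (r.preimage_mono h)).op (scal r s U a) = scal r s V a := by
  show Y.presheaf.map (homOfLE (r.preimage_mono h)).op (Y.presheaf.map (homOfLE (le_top : r ⁻¹ᵁ U ≤ ⊤)).op _) =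
    Y.presheaf.map (homOfLE (le_top : r ⁻¹ᵁ V ≤ ⊤)).op _
  rw [← CommRingCat.comp_apply, ← Functor.map_comp]
  rfl

theorem res_app {U V : X.Opens} (h : V ≤ U) (a : Γ(X, U)) :
    Y.presheaf.map (homOfLE (r.preimage_mono h)).op (r.app U a) = r.app V (X.presheaf.map (homOfLE h).op a) :=
  (NatTrans.naturality_apply r.c (homOfLE h).op a).symm

variable {t : A} (ht : t * t = 0)

include ht in
theorem scal_mul_self (U : X.Opens) : scal r s U t * scal r s U t = 0 := by rw [← map_mul, ht, map_zero]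

/-- `b ↦ 1 + b t`. -/
def nuUnit (U : X.Opens) (b : Γ(X, U)) : Γ(Y, r ⁻¹ᵁ U)ˣ where
  val := 1 + r.app U b * scal r s U t
  inv := 1 - r.app U b * scal r s U t
  val_inv := by linear_combination -(r.app U b * r.app U b) * scal_mul_self r s ht U
  inv_val := by linear_combination -(r.app U b * r.app U b) * scal_mul_self r s ht U

/-- `O → r_* O^×`, `b ↦ 1 + b t`. -/
def nu : Coh.toAb (Coh.structureModule X) ⟶ (CohTop.push r.base).obj (UnitsSh.unitsAb Y) :=
  ⟨{ app := fun U => AddCommGrpCat.ofHom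
      { toFun := fun b => UnitsSh.sectOfUnit (O := Y.presheaf) (nuUnit r s ht U.unop b)
        map_zero' := congrArg Additive.ofMul (Units.ext (show (1 : Γ(Y, r ⁻¹ᵁ U.unop)) +
          r.app U.unop (0 : Γ(X, U.unop)) * scal r s U.unop t = 1 by rw [map_zero, zero_mul, add_zero]))
        map_add' := fun a b => congrArg Additive.ofMul (Units.ext (show (1 : Γ(Y, r ⁻¹ᵁ U.unop)) +
          r.app U.unop ((show Γ(X, U.unop) from a) + (show Γ(X, U.unop) from b)) * scal r s U.unop t =
          (1 + r.app U.unop (show Γ(X, U.unop) from a) * scal r s U.unop t) *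
            (1 + r.app U.unop (show Γ(X, U.unop) from b) * scal r s U.unop t) by
          rw [map_add]
          linear_combination -(r.app U.unop (show Γ(X, U.unop) from a) * r.app U.unop (show Γ(X, U.unop) from b)) *
            scal_mul_self r s ht U.unop)) }
     naturality := fun U V j => by
      ext a
      refine congrArg Additive.ofMul (Units.ext ?_)
      show 1 + r.app V.unop (X.presheaf.map j (show Γ(X, U.unop) from a)) * scal r s V.unop t =
        Y.presheaf.map (homOfLE (r.preimage_mono j.unop.le)).op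
          (1 + r.app U.unop (show Γ(X, U.unop) from a) * scal r s U.unop t)
      rw [map_add, map_one, map_mul, scal_res r s j.unop.le, res_app r j.unop.le]
      rfl }⟩

theorem nu_app_val (U : X.Opens) (b : Γ(X, U)) :
    (Additive.toMul (show Additive Γ(Y, r ⁻¹ᵁ U)ˣ from (nu r s ht).hom.app (op U) b)).val =
      1 + r.app U b * scal r s U t := rfl

theorem nu_zero (h0 : (0 : A) * 0 = 0) : nu r s h0 = 0 := by
  apply Sheaf.hom_ext
  ext U b
  refine congrArg Additive.ofMul (Units.ext ?_)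
  show (1 : Γ(Y, r ⁻¹ᵁ U.unop)) + r.app U.unop (show Γ(X, U.unop) from b) * scal r s U.unop (0 : A) = 1
  rw [map_zero, mul_zero, add_zero]

theorem nu_congr {t' : A} (e : t = t') (ht' : t' * t' = 0) : nu r s ht = nu r s ht' := by
  subst e
  rfl

variable {k : Type u} [CommRing k] [Algebra k A] (c : X ⟶ Spec (CommRingCat.of k))

theorem scal_algebraMap (hw : r ≫ c = s ≫ Spec.map (CommRingCat.ofHom (algebraMap k A))) (U : X.Opens) (a : k) :
    scal r s U (algebraMap k A a) = r.app U (X.presheaf.map (homOfLE (le_top : U ≤ ⊤)).op (Coh.toGlobal c a)) := by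
  rw [← res_app r (le_top : U ≤ ⊤)]
  refine congrArg (Y.presheaf.map (homOfLE (le_top : r ⁻¹ᵁ U ≤ ⊤)).op) ?_
  have h := congrArg (fun m => Scheme.Hom.appTop m) hw
  simp only [Scheme.Hom.comp_appTop] at h
  refine Eq.trans ?_ (ConcreteCategory.congr_hom h ((Scheme.ΓSpecIso (CommRingCat.of k)).inv a)).symm
  exact congrArg s.appTop (ConcreteCategory.congr_hom
    (Scheme.ΓSpecIso_inv_naturality (CommRingCat.ofHom (algebraMap k A))) a)

theorem nu_smul (hw : r ≫ c = s ≫ Spec.map (CommRingCat.ofHom (algebraMap k A))) (a : k)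
    (ht' : (a • t) * (a • t) = 0) :
    nu r s ht' = Coh.smulAb (Coh.structureModule X) (Coh.toGlobal c a) ≫ nu r s ht := by
  apply Sheaf.hom_ext
  ext U b
  refine congrArg Additive.ofMul (Units.ext ?_)
  show 1 + r.app U.unop (show Γ(X, U.unop) from b) * scal r s U.unop (a • t) =
    1 + r.app U.unop (X.presheaf.map (homOfLE (le_top : U.unop ≤ ⊤)).op (Coh.toGlobal c a) *
      (show Γ(X, U.unop) from b)) * scal r s U.unop t
  rw [Algebra.smul_def, map_mul, map_mul, scal_algebraMap r s c hw]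
  ring

end Nu

section NuNatural

variable {A B : Type u} [CommRing A] [CommRing B] {X Y Y' : Scheme.{u}} (r : Y ⟶ X)
  (s : Y ⟶ Spec (CommRingCat.of A)) (q : Y' ⟶ Y) (s' : Y' ⟶ Spec (CommRingCat.of B)) (φ : A →+* B)

theorem nu_natural (hs : q ≫ s = s' ≫ Spec.map (CommRingCat.ofHom φ)) {t : A} (ht : t * t = 0)
    (ht' : φ t * φ t = 0) : nu r s ht ≫ qSh r q = nu (q ≫ r) s' ht' := by
  apply Sheaf.hom_ext
  ext U b
  refine congrArg Additive.ofMul (Units.ext ?_)
  show q.app (r ⁻¹ᵁ U.unop) (1 + r.app U.unop (show Γ(X, U.unop) from b) * scal r s U.unop t) =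
    (1 : Γ(Y', q ⁻¹ᵁ (r ⁻¹ᵁ U.unop))) + q.app (r ⁻¹ᵁ U.unop) (r.app U.unop (show Γ(X, U.unop) from b)) *
      (show Γ(Y', q ⁻¹ᵁ (r ⁻¹ᵁ U.unop)) from scal (q ≫ r) s' U.unop (φ t))
  rw [map_add, map_one, map_mul]
  congr 2
  show q.app (r ⁻¹ᵁ U.unop) (Y.presheaf.map (homOfLE (le_top : r ⁻¹ᵁ U.unop ≤ ⊤)).op _) = _
  rw [← CommRingCat.comp_apply, q.naturality]
  refine congrArg (Y'.presheaf.map _) ?_
  show (s.appTop ≫ q.appTop) ((Scheme.ΓSpecIso (CommRingCat.of A)).inv t) = s'.appTop _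
  rw [← Scheme.Hom.comp_appTop, hs, Scheme.Hom.comp_appTop, CommRingCat.comp_apply]
  exact congrArg s'.appTop (ConcreteCategory.congr_hom
    (Scheme.ΓSpecIso_inv_naturality (CommRingCat.ofHom φ)) t).symm

end NuNatural

section Classes

variable {A : Type u} [CommRing A] {X Y : Scheme.{u}} (r : Y ⟶ X) (hG : PicH1_21.Good r)
  (s : Y ⟶ Spec (CommRingCat.of A)) {t : A} (ht : t * t = 0)

/-- The class `1 + t h`. -/
def nuCls : Coh.HH X (Coh.structureModule X) 1 →+ Additive (PicLoc.PicSet Y) :=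
  (PicH1_21.picEquiv hG).symm.toAddMonoidHom.comp
    ((CohFound.mp (nu r s ht) 1 ⊤).comp (CohFound.hExt (Coh.toAb (Coh.structureModule X)) 1).toAddMonoidHom)

theorem nuCls_apply (h : Coh.HH X (Coh.structureModule X) 1) :
    nuCls r hG s ht h = (PicH1_21.picEquiv hG).symm
      (CohFound.mp (nu r s ht) 1 ⊤ (CohFound.hExt (Coh.toAb (Coh.structureModule X)) 1 h)) := rfl

theorem nuCls_zero (h0 : t = 0) (h : Coh.HH X (Coh.structureModule X) 1) : nuCls r hG s ht h = 0 := by
  rw [nuCls_apply, nu_congr r s ht h0 (mul_zero 0), nu_zero, CohFound.mp_zero, map_zero]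

theorem nuCls_smul {k : Type u} [CommRing k] [Algebra k A] [X.Over (Spec (CommRingCat.of k))]
    (hw : r ≫ (X ↘ Spec (CommRingCat.of k)) = s ≫ Spec.map (CommRingCat.ofHom (algebraMap k A))) (a : k)
    (ht' : (a • t) * (a • t) = 0) (h : Coh.HH X (Coh.structureModule X) 1) :
    nuCls r hG s ht' h = nuCls r hG s ht (a • h) := by
  rw [nuCls_apply, nuCls_apply, nu_smul r s ht _ hw a ht']
  congr 1
  rw [CohFound.mp_comp]
  congr 1
  exact (CohFound.hExt_map _ 1 h).symm

theorem pl_nuCls {B : Type u} [CommRing B] {Y' : Scheme.{u}} (q : Y' ⟶ Y) {r' : Y' ⟶ X} (hq : q ≫ r = r')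
    (hG' : PicH1_21.Good r') (s' : Y' ⟶ Spec (CommRingCat.of B)) (φ : A →+* B)
    (hs : q ≫ s = s' ≫ Spec.map (CommRingCat.ofHom φ)) (ht' : φ t * φ t = 0)
    (h : Coh.HH X (Coh.structureModule X) 1) :
    NPow20.pl q (Additive.toMul (nuCls r hG s ht h)) = Additive.toMul (nuCls r' hG' s' ht' h) := by
  subst hq
  apply Additive.ofMul.injective
  apply (PicH1_21.picEquiv hG').injective
  rw [picEquiv_pl hG hG', ofMul_toMul, ofMul_toMul, nuCls_apply, nuCls_apply, AddEquiv.apply_symm_apply,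
    AddEquiv.apply_symm_apply, ← CohFound.mp_comp, nu_natural r s q s' φ hs ht ht']

end Classes

end Groth.Agent.PicTan20
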