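import Groth.Agent.Lib.PicTan20.Rigid
import Groth.Agent.Lib.PicTan20.SmoothPts
import Groth.Agent.Lib.PicSm20.CurveSmooth
import Groth.Agent.Lib.CurveCoh17.GenusBC
import Groth.Agent.Lib.PicDesc21.Classes
import Groth.Agent.Lib.AbDual21.Phi

/-!
# The dimension of `Pic⁰` of a curve over an algebraically closed field
-/

set_option autoImplicit false
set_option linter.style.haveILetI false
set_option backward.isDefEq.respectTransparency false
set_option backward.isDefEq.respectTransparency.types false

universe u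

open CategoryTheory CategoryTheory.Limits AlgebraicGeometry

noncomputable section

namespace Groth.Agent.PicTan20

attribute [local instance] M2.law

/-- Geometric triviality descends along surjective closed immersions of the base. -/
theorem isPicZeroCl_of_pull {X S : Scheme.{u}} (f : X ⟶ S) {T T' : Over S} (g : T' ⟶ T) [IsClosedImmersion g.left]
    [Surjective g.left] {c : PicF.Cl (PicF.XT f T)} (hc : PicF.IsInvertibleCl c)
    (h : AbDual.IsPicZeroCl f T' (PicF.pullCl (PicF.XTmap f g) c)) : AbDual.IsPicZeroCl f T c := by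
  refine AbDual21.isPicZeroCl_iff.2 ⟨hc, fun Ω _ _ s => ?_⟩
  haveI : IsClosedImmersion (pullback.snd g.left s) := MorphismProperty.pullback_snd _ _ inferInstance
  haveI : Surjective (pullback.snd g.left s) := MorphismProperty.pullback_snd _ _ inferInstance
  haveI : IsReduced (Spec (CommRingCat.of Ω)) := inferInstance
  haveI : IsIso (pullback.snd g.left s) := isIso_of_isClosedImmersion_of_surjective _
  let τ : Spec (CommRingCat.of Ω) ⟶ T'.left := inv (pullback.snd g.left s) ≫ pullback.fst g.left s
  have hτ : τ ≫ g.left = s := by simp [τ, pullback.condition]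
  have h1 := (AbDual21.isPicZeroCl_iff.1 h).2 Ω τ
  rw [PicDesc21.pullCl_pullCl] at h1
  let k : pullback (PicF.XTproj f T) s ⟶ pullback (PicF.XTproj f T') τ :=
    pullback.lift
      (pullback.lift (pullback.fst _ _ ≫ pullback.fst f T.hom) (pullback.snd _ _ ≫ τ) (by
        simp only [Category.assoc, pullback.condition, pullback.condition_assoc, ← Over.w g, reassoc_of% hτ]))
      (pullback.snd _ _) (pullback.lift_snd _ _ _)
  have h2 := AbDual21.algZ_pull k (pullback.lift_snd _ _ _) h1
  rw [PicDesc21.pullCl_pullCl] at h2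
  convert h2 using 2
  apply pullback.hom_ext
  · simp [k, PicF.XTmap]
  · simp [k, PicF.XTmap, hτ, pullback.condition]

variable {K : Type u} [Field K] [IsAlgClosed K] {C : Scheme.{u}} (f : C ⟶ Spec (CommRingCat.of K))
  [IsProper f] [Smooth f] [GeometricallyConnected f]

/-- Over an algebraically closed field the dimension of a scheme representing `Pic⁰` of a curve is the genus. -/
theorem topologicalKrullDim_picZero [C.Over (Spec (CommRingCat.of K))] (hf : C ↘ Spec (CommRingCat.of K) = f)
    (hdim : topologicalKrullDim C ≤ (1 : WithBot ℕ∞)) [Nonempty C]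
    {P : Over (Spec (CommRingCat.of K))} [LocallyOfFinitePresentation P.hom]
    {φ : ∀ T : Over (Spec (CommRingCat.of K)), PicF.Cl (PicF.XT f T) → (T ⟶ P)}
    (hP : AbDual.IsRelPicZeroK Scheme.fppfPrecoverage f P φ) :
    topologicalKrullDim P.left = (Module.finrank K (Coh.HH C (Coh.structureModule C) 1) : WithBot ℕ∞) := by
  haveI : CompactSpace C := QuasiCompact.compactSpace_of_compactSpace f
  haveI : QuasiSeparatedSpace C := quasiSeparatedSpace_of_quasiSeparated f
  haveI : JacobsonSpace C := LocallyOfFiniteType.jacobsonSpace f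
  obtain ⟨z, -, hz⟩ := nonempty_inter_closedPoints (Z := (Set.univ : Set C)) Set.univ_nonempty
    isOpen_univ.isLocallyClosed
  obtain ⟨σ, hσ⟩ := (pointEquivClosedPoint f).symm ⟨z, hz⟩
  haveI : GeometricallyReduced f := AbRigid.geometricallyReduced_of_smooth f
  have ha₀ : ∀ (T : Scheme.{u}) (τ : T ⟶ Spec (CommRingCat.of K)), Function.Bijective (pullback.snd f τ).appTop :=
    fun T τ => by
    haveI : IsProper (Over.mk f).hom := ‹_›
    haveI : Smooth (Over.mk f).hom := ‹_›
    haveI : GeometricallyConnected (Over.mk f).hom := ‹_›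
    exact AbDual21.bijective_appTop_snd (Over.mk f) T τ
  have hd : ∀ s, topologicalKrullDim ↥(f.fiber s) ≤ (1 : WithBot ℕ∞) := fun s =>
    ((f.fiberι s).isEmbedding.isInducing.topologicalKrullDim_le).trans hdim
  haveI : Smooth P.hom := by
    refine (Groth.Agent.S1488.result P.hom).2 ⟨inferInstance, fun A _ I hI a b hab => ?_⟩
    let v₀ : NPow20.Ts0 I b ⟶ P := Over.homMk a hab.symm
    obtain ⟨c, hc, -, hcv⟩ := RigDesc22.exists_rig f σ hσ (RigDesc22.good_picZero f)
      hP.natural hP.locallySurjective hP.locallyInjective ha₀ (NPow20.Ts0 I b) v₀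
    obtain ⟨d, hd'⟩ := PicSm20.exists_pl_tmk_eq_curve f hd ((pow_two I).symm.trans hI) b
      ⟨c, AbDual21.picZero_invertible hc⟩
    haveI : IsClosedImmersion (NPow20.tmk I b).left :=
      IsClosedImmersion.spec_of_surjective _ Ideal.Quotient.mk_surjective
    haveI : Surjective (NPow20.tmk I b).left := ⟨fun p => by
      have hle : I ≤ p.asIdeal := fun x hx => p.2.mem_of_pow_mem 2 (by
        have h2 : x ^ 2 ∈ I ^ 2 := Ideal.pow_mem_pow hx 2
        rw [hI] at h2
        rw [show x ^ 2 = 0 from h2]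
        exact zero_mem _)
      have h3 := range_comap_of_surjective (A ⧸ I) (Ideal.Quotient.mk I) Ideal.Quotient.mk_surjective
      have h4 : p ∈ Set.range (PrimeSpectrum.comap (Ideal.Quotient.mk I)) := by
        rw [h3, Ideal.mk_ker]; exact hle
      exact h4⟩
    have hd0 : AbDual.IsPicZeroCl f (NPow20.Ts A b) d.1 := by
      refine isPicZeroCl_of_pull f (NPow20.tmk I b) d.2 ?_
      rw [show PicF.pullCl (PicF.XTmap f (NPow20.tmk I b)) d.1 = c from congrArg Subtype.val hd']
      exact hc
    refine ⟨(φ _ d.1).left, ?_, Over.w (φ _ d.1)⟩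
    have h1 : φ (NPow20.Ts0 I b) c = NPow20.tmk I b ≫ φ (NPow20.Ts A b) d.1 := by
      rw [← hP.natural _ _ (NPow20.tmk I b) d.1 hd0]
      exact congrArg (φ _) (congrArg Subtype.val hd').symm
    exact (congrArg CommaMorphism.left (h1.symm.trans hcv) :)
  obtain ⟨ξ, hξ, hξt, hξφ⟩ := RigDesc22.exists_rig f σ hσ (RigDesc22.good_picZero f)
    hP.natural hP.locallySurjective hP.locallyInjective ha₀ P (𝟙 P)
  have hu : ∀ (T : Over (Spec (CommRingCat.of K))) (c : PicF.Rig f σ hσ T), AbDual.IsPicZeroCl f T c.1 →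
      ∃! g : T ⟶ P, PicF.pullCl (PicF.XTmap f g) ξ = c.1 := by
    intro T c hc
    have hg : ∀ g : T ⟶ P, φ T (PicF.pullCl (PicF.XTmap f g) ξ) = g := fun g => by
      rw [hP.natural _ _ g ξ hξ, hξφ, Category.comp_id]
    refine ⟨φ T c.1, RigDesc22.eq_of_phi_eq f σ hσ (RigDesc22.good_picZero f) hP.locallyInjective ha₀
      ((RigDesc22.good_picZero f).pull _ hξ) hc (RigDesc22.trivial_pull f σ hσ _ hξt) c.2.2 (hg _), fun g h => ?_⟩
    rw [← h, hg]
  obtain ⟨g₀, -, -⟩ := hu (Over.mk (𝟙 _)) ⟨PicF.cl (Coh.structureModule _),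
    AbDual21.picZero_invertible (AbDual21.picZero_one _), PicDesc21.pullCl_trivial _ rfl⟩ (AbDual21.picZero_one _)
  letI : P.left.Over (Spec (CommRingCat.of K)) := ⟨P.hom⟩
  haveI : Smooth (P.left ↘ Spec (CommRingCat.of K)) := ‹Smooth P.hom›
  haveI : Nonempty P.left := ⟨g₀.left (IsLocalRing.closedPoint K)⟩
  refine topologicalKrullDim_eq_of_rational (k := K) _ fun a ha => ?_
  let p : Over.mk (𝟙 (Spec (CommRingCat.of K))) ⟶ P := Over.homMk a ha
  refine ((rigTanData (K := K) (Q := fun T c => AbDual.IsPicZeroCl f T c) f σ hσ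
    ⟨ξ, AbDual21.picZero_invertible hξ, hξt⟩ p hξ (fun {T T'} g {c} _ h => (RigDesc22.good_picZero f).pull g h)
    (fun {T T'} g _ _ {c} hc h => isPicZeroCl_of_pull f g hc h) hu).finrank_cotangent_eq).trans ?_
  subst hf
  exact CurveCoh17.finrank_HH_of_isPullback (g := pullback.fst (C ↘ Spec (CommRingCat.of K)) _)
    (IsPullback.of_hasPullback (C ↘ Spec (CommRingCat.of K)) (tS K (K := K) K)) 1

end Groth.Agent.PicTan20
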