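import Groth.Agent.Lib.PicTan20.PicZeroDeg
import Groth.Agent.Lib.PicSep22.Family
import Groth.Agent.Lib.AbDual21.Phi
import Groth.Agent.Lib.RigDesc22.RelPic

/-!
# The scheme representing `Pic⁰` of a family of curves is the degree zero part of the Picard scheme
-/

set_option autoImplicit false
set_option linter.style.haveILetI false
set_option backward.isDefEq.respectTransparency false
set_option backward.isDefEq.respectTransparency.types false

universe u

open CategoryTheory CategoryTheory.Limits AlgebraicGeometry TopologicalSpace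

noncomputable section

namespace Groth.Agent.PicTan20

noncomputable local instance instLawPicZeroOpen (Y : Scheme.{u}) : PicGrp.Law Y := M2.law Y

variable {C S : Scheme.{u}} (f : C ⟶ S) {P P₀ : Over S} {φ : ∀ T : Over S, PicF.Cl (PicF.XT f T) → (T ⟶ P)}
  (hP : AbDual.IsRelPicK Scheme.fppfPrecoverage f P φ)
  {φ₀ : ∀ T : Over S, PicF.Cl (PicF.XT f T) → (T ⟶ P₀)}
  (hP₀ : AbDual.IsRelPicZeroK Scheme.fppfPrecoverage f P₀ φ₀) {j : P₀ ⟶ P}
  (hj : ∀ (T : Over S) (c : PicF.Cl (PicF.XT f T)), AbDual.IsPicZeroCl f T c → φ₀ T c ≫ j = φ T c)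

include hP hP₀ hj in
/-- The natural map from `Pic⁰` to `Pic` is a monomorphism. -/
theorem mono_picZero : Mono j.left := by
  constructor
  intro Z a b hab
  have hw : b ≫ P₀.hom = a ≫ P₀.hom := by
    rw [← Over.w j, ← Category.assoc, ← Category.assoc, hab]
  let T : Over S := Over.mk (a ≫ P₀.hom)
  let a' : T ⟶ P₀ := Over.homMk a rfl
  let b' : T ⟶ P₀ := Over.homMk b hw
  suffices a' = b' from congrArg CommaMorphism.left this
  obtain ⟨R₁, hR₁, hR₁'⟩ := hP₀.locallySurjective T a'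
  refine AbDual21.hom_ext_presieve hR₁ fun U u hu => ?_
  obtain ⟨c₁, hc₁, hφ₁⟩ := hR₁' u hu
  obtain ⟨R₂, hR₂, hR₂'⟩ := hP₀.locallySurjective _ (AbDual.ovrHom T u ≫ b')
  refine AbDual21.hom_ext_presieve hR₂ fun V v hv => ?_
  obtain ⟨c₂, hc₂, hφ₂⟩ := hR₂' v hv
  let W : Over S := AbDual.ovr (AbDual.ovr T u) v
  have hc₁' := (RigDesc22.good_picZero f).pull (AbDual.ovrHom (AbDual.ovr T u) v) hc₁
  have e1 : φ₀ W (PicF.pullCl (PicF.XTmap f (AbDual.ovrHom (AbDual.ovr T u) v)) c₁) =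
      AbDual.ovrHom _ v ≫ AbDual.ovrHom T u ≫ a' := (hP₀.natural _ _ _ _ hc₁).trans (by rw [hφ₁])
  have hab' : a' ≫ j = b' ≫ j := Over.OverMorphism.ext hab
  have h := hj W _ hc₁'
  rw [e1, Category.assoc, Category.assoc, hab', ← Category.assoc (AbDual.ovrHom T u), ← Category.assoc,
    ← hφ₂, hj W _ hc₂] at h
  obtain ⟨R₃, hR₃, hR₃'⟩ := hP.locallyInjective W _ _ (AbDual21.picZero_invertible hc₁')
    (AbDual21.picZero_invertible hc₂) h.symm
  refine AbDual21.hom_ext_presieve hR₃ fun X x hx => ?_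
  have hx' := congrArg (φ₀ _) (hR₃' x hx)
  rw [hP₀.natural _ _ _ _ hc₁', hP₀.natural _ _ _ _ hc₂, e1, hφ₂] at hx'
  exact hx'

variable [IsProper f] [Smooth f] [GeometricallyConnected f]
  (hdim : ∀ s : S, topologicalKrullDim ↥(f.fiber s) = 1)

include hP hP₀ hj hdim in
/-- The natural map from `Pic⁰` to `Pic` of a family of curves is an open and closed immersion. -/
theorem isOpenImmersion_picZero : IsOpenImmersion j.left ∧ IsClosedImmersion j.left := by
  obtain ⟨d, hd, hd'⟩ := exists_degree_pic f (fun s => (hdim s).le) hP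
  have hdc : ∀ (T : Over S) (c : PicF.Cl (PicF.XT f T)), PicF.IsInvertibleCl c → ∀ t,
      d ((φ T c).left t) = degCl f T t c := by
    rintro T _ ⟨L, rfl, hL⟩ t
    rw [hd' T L hL t, degCl_cl]
  let V : P.left.Opens := ⟨d ⁻¹' {0}, hd _⟩
  have hVc : IsClosed (V : Set P.left) := ⟨hd {0}ᶜ⟩
  have hrange : Set.range j.left ⊆ Set.range V.ι := by
    rintro _ ⟨p, rfl⟩
    rw [Scheme.Opens.range_ι]
    obtain ⟨R, hR, hR'⟩ := hP₀.locallySurjective P₀ (𝟙 P₀)
    obtain ⟨ι, U, u, hu, huR⟩ := RigDesc22.exists_family hR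
    obtain ⟨i, y, hy⟩ := (PicDesc21.mem_fppf_iff.1 hu).1 p
    obtain ⟨c, hc, hφc⟩ := hR' (u i) (huR i)
    show d (j.left p) = 0
    have h := hdc _ c (AbDual21.picZero_invertible hc) y
    rw [← hj _ c hc, hφc, Category.comp_id, (isPicZeroCl_iff_degCl f hdim (AbDual21.picZero_invertible hc)).1 hc y] at h
    rw [← hy]
    exact h
  let j' : P₀.left ⟶ (V : Scheme.{u}) := IsOpenImmersion.lift V.ι j.left hrange
  have hj' : j' ≫ V.ι = j.left := IsOpenImmersion.lift_fac _ _ _
  haveI := mono_picZero f hP hP₀ hj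
  haveI : Mono (j' ≫ V.ι) := by rw [hj']; infer_instance
  haveI : Mono j' := mono_of_mono j' V.ι
  let PV : Over S := Over.mk (V.ι ≫ P.hom)
  let iV : PV ⟶ P := Over.homMk V.ι rfl
  obtain ⟨R, hR, hR'⟩ := hP.locallySurjective PV iV
  haveI : IsIso j' := by
    refine PicSep22.of_fppf_family (MorphismProperty.isomorphisms Scheme.{u}) j' hR fun U u hu => ?_
    obtain ⟨c, hc, hφc⟩ := hR' u hu
    have hc0 : AbDual.IsPicZeroCl f _ c := (isPicZeroCl_iff_degCl f hdim hc).2 fun y => by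
      rw [← hdc _ c hc y, hφc]
      exact (u y).2
    let z : AbDual.ovr PV u ⟶ P₀ := φ₀ _ c
    have hz : z.left ≫ j' = u := by
      rw [← cancel_mono V.ι, Category.assoc, hj']
      have h := hj _ c hc0
      rw [hφc] at h
      exact congrArg CommaMorphism.left h
    haveI : IsSplitEpi (pullback.snd j' u) :=
      ⟨⟨pullback.lift z.left (𝟙 U) (by rw [Category.id_comp]; exact hz), pullback.lift_snd _ _ _⟩⟩
    show IsIso _
    exact isIso_of_mono_of_isSplitEpi _
  rw [← hj']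
  refine ⟨inferInstance, ?_⟩
  haveI : IsClosedImmersion V.ι := IsClosedImmersion.of_isPreimmersion V.ι (by rw [Scheme.Opens.range_ι]; exact hVc)
  infer_instance

end Groth.Agent.PicTan20
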