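import Groth.Agent.Lib.PicTan20.Square
import Groth.Agent.Lib.HilbBC25.Basic
import Groth.Prelude.Def_PicRel2
import Mathlib.RingTheory.Etale.Basic
import Mathlib.RingTheory.Jacobson.Ring
import Mathlib.AlgebraicGeometry.Morphisms.Etale

/-!
# The relative Picard functor on infinitesimal thickenings of an algebraically closed field
-/

set_option autoImplicit false
set_option linter.style.haveILetI false
set_option backward.isDefEq.respectTransparency false
set_option backward.isDefEq.respectTransparency.types false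

universe u

open CategoryTheory CategoryTheory.Limits AlgebraicGeometry TopologicalSpace Opposite

noncomputable section

namespace Groth.Agent.PicTan20

attribute [local instance] M2.law

/-- Étale coverings of an infinitesimal thickening of an algebraically closed field have sections. -/
theorem exists_section {A K : Type u} [CommRing A] [Field K] [IsAlgClosed K] (π : A →+* K)
    (hs : Function.Surjective π) (hn : IsNilpotent (RingHom.ker π)) {ι : Type u}
    (U : ι → (Spec (CommRingCat.of A)).Etale) (hU : EtCoh.Covers U) :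
    ∃ (i : ι) (σ : Spec (CommRingCat.of A) ⟶ (U i).left), σ ≫ (U i).hom = 𝟙 _ := by
  haveI hmax : (RingHom.ker π).IsMaximal := RingHom.ker_isMaximal_of_surjective π hs
  obtain ⟨i, z, hz⟩ := hU ⟨RingHom.ker π, hmax.isPrime⟩
  obtain ⟨V, hV, hzV, -⟩ := exists_isAffineOpen_mem_and_subset (X := (U i).left) (x := z) (U := ⊤) trivial
  haveI : Etale (U i).hom := (U i).prop
  obtain ⟨φ, hφ⟩ := Spec.map_surjective (hV.fromSpec ≫ (U i).hom)
  have hφe : φ.hom.Etale := (HasRingHomProperty.Spec_iff (P := @Etale)).1 (by rw [hφ]; infer_instance)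
  letI : Algebra A Γ((U i).left, V) := φ.hom.toAlgebra
  haveI : Algebra.Etale A Γ((U i).left, V) := hφe
  haveI : Nonempty V := ⟨⟨z, hzV⟩⟩
  haveI : Nontrivial Γ((U i).left, V) := inferInstance
  obtain ⟨m, hm⟩ := Ideal.exists_maximal Γ((U i).left, V)
  have hle : ∀ a ∈ RingHom.ker π, φ.hom a ∈ m := fun a ha => by
    obtain ⟨N, hN⟩ := hn
    refine hm.isPrime.mem_of_pow_mem N ?_
    have h1 : a ^ N ∈ RingHom.ker π ^ N := Ideal.pow_mem_pow ha N
    rw [hN] at h1
    rw [← map_pow, show a ^ N = 0 from h1, map_zero]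
    exact zero_mem _
  letI : Field (Γ((U i).left, V) ⧸ m) := Ideal.Quotient.field m
  let τ : K →+* Γ((U i).left, V) ⧸ m := RingHom.liftOfSurjective π hs
    ⟨(Ideal.Quotient.mk m).comp φ.hom, fun a ha => Ideal.Quotient.eq_zero_iff_mem.2 (hle a ha)⟩
  have hτ : τ.comp π = (Ideal.Quotient.mk m).comp φ.hom := RingHom.liftOfSurjective_comp _ _ _
  have hft : τ.FiniteType := by
    refine RingHom.FiniteType.of_comp_finiteType (f := π) ?_
    rw [hτ]
    exact (RingHom.FiniteType.of_surjective _ Ideal.Quotient.mk_surjective).comp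
      (RingHom.finiteType_algebraMap.2 (inferInstance : Algebra.FiniteType A Γ((U i).left, V)))
  letI : Algebra K (Γ((U i).left, V) ⧸ m) := τ.toAlgebra
  haveI : Algebra.FiniteType K (Γ((U i).left, V) ⧸ m) := hft
  haveI : Module.Finite K (Γ((U i).left, V) ⧸ m) := finite_of_finite_type_of_isJacobsonRing K _
  have hb : Function.Bijective τ := IsAlgClosed.algebraMap_bijective_of_isIntegral
  let τe := RingEquiv.ofBijective τ hb
  letI : Algebra A K := π.toAlgebra
  let g₀ : Γ((U i).left, V) →ₐ[A] K :=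
    { (τe.symm.toRingHom.comp (Ideal.Quotient.mk m)) with
      commutes' := fun a => by
        show τe.symm (Ideal.Quotient.mk m (φ.hom a)) = π a
        rw [show Ideal.Quotient.mk m (φ.hom a) = τe (π a) from (RingHom.congr_fun hτ a).symm,
          RingEquiv.symm_apply_apply] }
  let g : Γ((U i).left, V) →ₐ[A] A :=
    Algebra.FormallySmooth.liftOfSurjective g₀ (Algebra.ofId A K) hs hn
  refine ⟨i, Spec.map (CommRingCat.ofHom g.toRingHom) ≫ hV.fromSpec, ?_⟩
  rw [Category.assoc, ← hφ, ← Spec.map_comp]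
  rw [show φ ≫ CommRingCat.ofHom g.toRingHom = 𝟙 (CommRingCat.of A) from CommRingCat.hom_ext
    (RingHom.ext fun a => g.commutes a), Spec.map_id]

variable {X S : Scheme.{u}} {f : X ⟶ S} {P : Over S}
  {φ : ∀ T : Over S, PicF.Cl (PicF.XT f T) → (T ⟶ P)} (hP : PicRel.IsRelPic f P φ)

include hP

/-- The value on an invertible class is natural. -/
theorem ev_pl {T T' : Over S} (g : T' ⟶ T) (c : PicLoc.PicSet (PicF.XT f T)) :
    φ T' (NPow20.pl (PicF.XTmap f g) c).1 = g ≫ φ T c.1 :=
  hP.natural T T' g c.1 c.2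

variable {A K : Type u} [CommRing A] [Field K] [IsAlgClosed K] (π : A →+* K) (hs : Function.Surjective π)
  (hn : IsNilpotent (RingHom.ker π)) (t : Spec (CommRingCat.of A) ⟶ S)

omit hP in
theorem exists_section_over {ι : Type u} (U : ι → (Over.mk t).left.Etale) (hU : EtCoh.Covers U)
    (hs : Function.Surjective π) (hn : IsNilpotent (RingHom.ker π)) :
    ∃ (i : ι) (g : Over.mk t ⟶ PicRel.ovr (Over.mk t) (U i)), g ≫ PicRel.ovrHom (Over.mk t) (U i) = 𝟙 _ := by
  obtain ⟨i, σ, hσ⟩ := exists_section π hs hn U hU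
  exact ⟨i, Over.homMk σ ((Category.assoc _ _ _).symm.trans ((congrArg (· ≫ t) hσ).trans (Category.id_comp t))),
    Over.OverMorphism.ext hσ⟩

include hs hn in
/-- Every point with values in the thickening is the value of a class. -/
theorem exists_class (v : Over.mk t ⟶ P) :
    ∃ c : PicLoc.PicSet (PicF.XT f (Over.mk t)), φ _ c.1 = v := by
  obtain ⟨ι, U, hU, hc⟩ := hP.locallySurjective (Over.mk t) v
  obtain ⟨i, g, hg⟩ := exists_section_over π t U hU hs hn
  obtain ⟨c, hc1, hc2⟩ := hc i
  refine ⟨NPow20.pl (PicF.XTmap f g) ⟨c, hc1⟩, ?_⟩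
  rw [ev_pl hP, hc2, ← Category.assoc, hg, Category.id_comp]

include hs hn in
/-- A class on the thickening is determined by its value. -/
theorem class_unique (c c' : PicLoc.PicSet (PicF.XT f (Over.mk t))) (h : φ _ c.1 = φ _ c'.1) : c = c' := by
  obtain ⟨ι, U, hU, hc⟩ := hP.locallyInjective (Over.mk t) c.1 c'.1 c.2 c'.2 h
  obtain ⟨i, g, hg⟩ := exists_section_over π t U hU hs hn
  have h1 : NPow20.pl (PicF.XTmap f (PicRel.ovrHom (Over.mk t) (U i))) c =
      NPow20.pl (PicF.XTmap f (PicRel.ovrHom (Over.mk t) (U i))) c' := Subtype.ext (hc i)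
  have key : ∀ d : PicLoc.PicSet (PicF.XT f (Over.mk t)),
      NPow20.pl (PicF.XTmap f g) (NPow20.pl (PicF.XTmap f (PicRel.ovrHom (Over.mk t) (U i))) d) = d := fun d => by
    rw [← NPow20.pl_comp, ← HilbBC25.XTmap_comp, hg, HilbBC25.XTmap_id, NPow20.pl_id]
  rw [← key c, ← key c', h1]

end Groth.Agent.PicTan20
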