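import Groth.Agent.Lib.PicTan20.Nu

/-!
# Infinitesimal squares over a field
-/

set_option autoImplicit false
set_option linter.style.haveILetI false
set_option backward.isDefEq.respectTransparency false

universe u

open CategoryTheory CategoryTheory.Limits AlgebraicGeometry TopologicalSpace Opposite DualNumber

noncomputable section

namespace Groth.Agent.PicTan20

attribute [local instance] M2.law

variable {K : Type u} [Field K] {X : Scheme.{u}} {c : X ⟶ Spec (CommRingCat.of K)}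

/-- The projection of an infinitesimal thickening is a homeomorphism. -/
theorem good_of_square {A : Type u} [CommRing A] [Algebra K A] (π : A →ₐ[K] K)
    (hπ : IsNilpotent (RingHom.ker π.toRingHom)) {Y : Scheme.{u}} {r : Y ⟶ X} {s : Y ⟶ Spec (CommRingCat.of A)}
    (hpb : IsPullback r s c (Spec.map (CommRingCat.ofHom (algebraMap K A)))) : PicH1_21.Good r := by
  let sp : Spec (CommRingCat.of K) ⟶ Spec (CommRingCat.of A) := Spec.map (CommRingCat.ofHom π.toRingHom)
  have hsp : sp ≫ Spec.map (CommRingCat.ofHom (algebraMap K A)) = 𝟙 _ := by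
    rw [← Spec.map_comp, ← CommRingCat.ofHom_comp, show π.toRingHom.comp (algebraMap K A) = RingHom.id K from
      RingHom.ext fun a => π.commutes a, CommRingCat.ofHom_id, Spec.map_id]
  let i : X ⟶ Y := hpb.lift (𝟙 X) (c ≫ sp) (by rw [Category.id_comp, Category.assoc, hsp, Category.comp_id])
  have hir : i ≫ r = 𝟙 X := hpb.lift_fst _ _ _
  have his : IsPullback i c s sp := by
    refine IsPullback.of_right (h₁₂ := r) (v₁₃ := c) (h₂₂ := Spec.map (CommRingCat.ofHom (algebraMap K A))) ?_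
      (hpb.lift_snd _ _ _) hpb
    rw [hir, hsp]
    exact IsPullback.of_horiz_isIso ⟨by simp⟩
  have hsurj : Function.Surjective sp := fun x => by
    have hx : (RingHom.ker π.toRingHom) ≤ x.asIdeal := fun a ha => by
      obtain ⟨N, hN⟩ := hπ
      refine x.2.mem_of_pow_mem N ?_
      have h1 : a ^ N ∈ (RingHom.ker π.toRingHom) ^ N := Ideal.pow_mem_pow ha N
      rw [hN] at h1
      rw [show a ^ N = 0 from h1]
      exact zero_mem _
    have hs : Function.Surjective π.toRingHom := fun a => ⟨algebraMap K A a, π.commutes a⟩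
    exact ⟨⟨⊥, Ideal.isPrime_bot⟩, PrimeSpectrum.ext ((le_antisymm (fun a ha => hx ha) fun a ha => by
      by_contra hne
      have h1 : IsUnit (π.toRingHom a) := isUnit_iff_ne_zero.2 hne
      obtain ⟨v, hv⟩ := h1.exists_right_inv
      obtain ⟨w, rfl⟩ := hs v
      rw [← map_mul] at hv
      have h2 : a * w - 1 ∈ RingHom.ker π.toRingHom := by rw [RingHom.mem_ker, map_sub, hv, map_one, sub_self]
      exact x.2.ne_top ((Ideal.eq_top_iff_one _).2
        (by simpa using x.asIdeal.sub_mem (x.asIdeal.mul_mem_right w ha) (hx h2)))))⟩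
  haveI : Surjective sp := ⟨hsurj⟩
  haveI : Surjective i := MorphismProperty.of_isPullback his.flip inferInstance
  have hri : ∀ x, r (i x) = x := fun x => by rw [← Scheme.Hom.comp_apply, hir]; rfl
  have hir' : ∀ y, i (r y) = y := fun y => by
    obtain ⟨x, rfl⟩ := i.surjective y
    rw [hri]
  exact PicH1_21.good_of_isEmbedding (Homeomorph.mk ⟨r, i, hir', hri⟩ r.continuous i.continuous).isClosedEmbedding

/-- `ker (K[ε] → K)` squares to zero. -/
theorem isNilpotent_ker_fst : IsNilpotent (RingHom.ker (TrivSqZeroExt.fstHom K K K).toRingHom) := by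
  refine ⟨2, le_bot_iff.1 ?_⟩
  rw [show (2 : ℕ) = 1 + 1 from rfl, Submodule.pow_succ, Submodule.pow_one, Ideal.mul_le]
  intro a ha b hb
  rw [RingHom.mem_ker] at ha hb
  exact TrivSqZeroExt.ext (by simp [show a.fst = 0 from ha]) (by simp [DualNumber.snd_mul, show a.fst = 0 from ha, show b.fst = 0 from hb])

theorem nu_eq_epsHom :
    nu (pullback.fst c (EtPic3.Dual.spEps K)) (pullback.snd c (EtPic3.Dual.spEps K))
      (DualNumber.eps_mul_eps (R := K)) = EtPic3.Dual.epsHom K c := rfl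

theorem injective_mp_epsHom : Function.Injective (CohFound.mp (EtPic3.Dual.epsHom K c) 1 ⊤) := by
  refine (injective_iff_map_eq_zero _).2 fun a ha => ?_
  obtain ⟨y, hy⟩ := CohFound.exact₁ (EtPic3.Dual.dsc_shortExact K c) 0 ⊤ a ha
  rw [← hy]
  have hs : CohFound.mp (EtPic3.Dual.iHom K c) 0 ⊤ (CohFound.mp (UnitsSh.comap (EtPic3.Dual.r K c)) 0 ⊤ y) = y := by
    refine (CohFound.mp_comp _ _ 0 ⊤ y).symm.trans ?_
    exact (congrArg (fun m => CohFound.mp m 0 ⊤ y) (EtPic3.Dual.comap_iHom K c)).trans (CohFound.mp_id _ _ _ y)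
  rw [← hs]
  exact CohFound.delta_mp (EtPic3.Dual.dsc_shortExact K c) 0 ⊤ _

/-- Decomposition in a split exact piece. -/
theorem exists_split {A B C : Type*} [AddCommGroup A] [AddCommGroup B] [AddCommGroup C]
    (α : A →+ B) (β : B →+ C) (σ : C →+ B) (hσ : ∀ z, β (σ z) = z)
    (hex : ∀ b, β b = 0 → ∃ a, α a = b) (b : B) : ∃ a z, α a + σ z = b := by
  obtain ⟨a, ha⟩ := hex (b - σ (β b)) (by rw [map_sub, hσ, sub_self])
  exact ⟨a, β b, by rw [ha, sub_add_cancel]⟩

variable {Y : Scheme.{u}} {r : Y ⟶ X} {s : Y ⟶ Spec (CommRingCat.of (DualNumber K))}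

/-- First order classes on `X_ε` are uniquely `1 + ε h`. -/
theorem nuCls_eps_injective (hpb : IsPullback r s c (EtPic3.Dual.spEps K)) (hG : PicH1_21.Good r) :
    Function.Injective (nuCls r hG s (DualNumber.eps_mul_eps (R := K))) := by
  intro h h' hh
  let e := hpb.isoPullback
  have hG₀ : PicH1_21.Good (EtPic3.Dual.r K c) :=
    PicH1_21.good_of_isEmbedding (EtPic3.Dual.isClosedEmbedding_r K c)
  have key : ∀ z, NPow20.pl e.inv (Additive.toMul (nuCls r hG s (DualNumber.eps_mul_eps (R := K)) z)) =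
      Additive.toMul (nuCls (EtPic3.Dual.r K c) hG₀ (pullback.snd c (EtPic3.Dual.spEps K))
        (DualNumber.eps_mul_eps (R := K)) z) := fun z =>
    pl_nuCls r hG s (DualNumber.eps_mul_eps (R := K)) e.inv hpb.isoPullback_inv_fst hG₀ _ (RingHom.id _)
      (by rw [hpb.isoPullback_inv_snd, CommRingCat.ofHom_id, Spec.map_id, Category.comp_id]) _ z
  have h2 := Additive.toMul.injective ((key h).symm.trans ((congrArg (fun a => NPow20.pl e.inv (Additive.toMul a)) hh).trans (key h')))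
  rw [nuCls_apply, nuCls_apply, nu_eq_epsHom] at h2
  exact (CohFound.hExt _ 1).injective (injective_mp_epsHom ((PicH1_21.picEquiv hG₀).symm.injective h2))

/-- A class on `X_ε` trivial on `X` is `1 + ε h`. -/
theorem exists_nuCls_eps (hpb : IsPullback r s c (EtPic3.Dual.spEps K)) (hG : PicH1_21.Good r) (i : X ⟶ Y)
    (hir : i ≫ r = 𝟙 X) (his : i ≫ s = c ≫ Spec.map (CommRingCat.ofHom (EtPic3.Dual.fstR K)))
    (a : PicLoc.PicSet Y) (ha : NPow20.pl i a = 1) :
    ∃ h, Additive.toMul (nuCls r hG s (DualNumber.eps_mul_eps (R := K)) h) = a := by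
  let e := hpb.isoPullback
  have hG₀ : PicH1_21.Good (EtPic3.Dual.r K c) :=
    PicH1_21.good_of_isEmbedding (EtPic3.Dual.isClosedEmbedding_r K c)
  obtain ⟨a₀, ha₀⟩ : ∃ a₀, a₀ = NPow20.pl e.inv a := ⟨_, rfl⟩
  let x : CohFound.Hc ((CohTop.push (EtPic3.Dual.r K c).base).obj (UnitsSh.unitsAb (EtPic3.Dual.Xe K c))) 1 ⊤ :=
    PicH1_21.picEquiv hG₀ (Additive.ofMul a₀)
  have hsz : ∀ z, CohFound.mp (EtPic3.Dual.iHom K c) 1 ⊤ (CohFound.mp (UnitsSh.comap (EtPic3.Dual.r K c)) 1 ⊤ z) = z := fun z => by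
    refine (CohFound.mp_comp _ _ 1 ⊤ z).symm.trans ?_
    exact (congrArg (fun m => CohFound.mp m 1 ⊤ z) (EtPic3.Dual.comap_iHom K c)).trans (CohFound.mp_id _ _ _ z)
  obtain ⟨w, z, hw⟩ := exists_split (CohFound.mp (EtPic3.Dual.epsHom K c) 1 ⊤) (CohFound.mp (EtPic3.Dual.iHom K c) 1 ⊤)
    (CohFound.mp (UnitsSh.comap (EtPic3.Dual.r K c)) 1 ⊤) hsz
    (fun b hb => CohFound.exact₂ (EtPic3.Dual.dsc_shortExact K c) 1 ⊤ b hb) x
  obtain ⟨h, rfl⟩ := (CohFound.hExt (Coh.toAb (Coh.structureModule X)) 1).surjective w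
  obtain ⟨b, hb⟩ := (PicH1_21.picEquivId X).surjective z
  have hsum : Additive.ofMul a₀ = Additive.ofMul (NPow20.pl (EtPic3.Dual.r K c) (Additive.toMul b)) +
      nuCls (EtPic3.Dual.r K c) hG₀ (pullback.snd c (EtPic3.Dual.spEps K)) (DualNumber.eps_mul_eps (R := K)) h := by
    apply (PicH1_21.picEquiv hG₀).injective
    rw [map_add, nuCls_apply, AddEquiv.apply_symm_apply, nu_eq_epsHom, PicH1_21.picEquiv_pullHom hG₀, ofMul_toMul, hb]
    exact hw.symm.trans (add_comm _ _)
  have hback : ∀ d, NPow20.pl e.hom (NPow20.pl e.inv d) = d := fun d => by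
    rw [← NPow20.pl_comp, e.hom_inv_id, NPow20.pl_id]
  have hnu : NPow20.pl e.hom (Additive.toMul (nuCls (EtPic3.Dual.r K c) hG₀ (pullback.snd c (EtPic3.Dual.spEps K))
      (DualNumber.eps_mul_eps (R := K)) h)) = Additive.toMul (nuCls r hG s (DualNumber.eps_mul_eps (R := K)) h) :=
    pl_nuCls _ hG₀ _ (DualNumber.eps_mul_eps (R := K)) e.hom hpb.isoPullback_hom_fst hG s (RingHom.id _)
      (by rw [hpb.isoPullback_hom_snd, CommRingCat.ofHom_id, Spec.map_id, Category.comp_id]) _ h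
  have hA : a = NPow20.pl r (Additive.toMul b) * Additive.toMul (nuCls r hG s (DualNumber.eps_mul_eps (R := K)) h) := by
    rw [← hback a, ← ha₀, ← toMul_ofMul a₀, hsum, toMul_add, map_mul, toMul_ofMul, hnu, ← NPow20.pl_comp,
      show e.hom ≫ EtPic3.Dual.r K c = r from hpb.isoPullback_hom_fst]
  have h0 : NPow20.pl i (Additive.toMul (nuCls r hG s (DualNumber.eps_mul_eps (R := K)) h)) = 1 := by
    rw [pl_nuCls r hG s _ i hir PicH1_21.good_id c (EtPic3.Dual.fstR K) his
      (by rw [show (EtPic3.Dual.fstR K) (ε : DualNumber K) = 0 from DualNumber.fst_eps, mul_zero]) h,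
      nuCls_zero _ _ _ _ (show (EtPic3.Dual.fstR K) (ε : DualNumber K) = 0 from DualNumber.fst_eps)]
    rfl
  have hb1 : Additive.toMul b = 1 := by
    rw [hA, map_mul, h0, mul_one, ← NPow20.pl_comp, hir, NPow20.pl_id] at ha
    exact ha
  exact ⟨h, by rw [hA, hb1, map_one, one_mul]⟩

end Groth.Agent.PicTan20
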